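import Mathlib
import Cfsg.Prelude.Def_GeometricClasses
import Cfsg.Agent.Lib.Helper43.OmegaParabolic
import Cfsg.Agent.Lib.Helper43.OmegaSimpleModels
import Cfsg.Agent.Lib.Helper48.Subfield.RatGL

set_option autoImplicit false
set_option linter.unusedSectionVars false
set_option linter.unusedVariables false
set_option linter.unusedSimpArgs false

/-! Subfield subgroups of the odd-dimensional orthogonal groups: basic vocabulary. -/

namespace Cfsg.Agent.Lib.Helper48.OSub

open scoped Matrix
open Matrix Cfsg.Agent.Lib.Helper43 Cfsg.Agent.Lib.Helper48.Subfield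

variable {F : Type*} [Field F] {m : ℕ}

/-- the index type -/
abbrev Idx (m : ℕ) := Unit ⊕ (Fin m ⊕ Fin m)

/-- the anisotropic position -/
def pd : Idx m := Sum.inl ()

/-- the position of a singular basis vector -/
def ps (i : Fin m) (ε : Bool) : Idx m := Sum.inr (if ε then Sum.inl i else Sum.inr i)

theorem ps_true (i : Fin m) : ps i true = Sum.inr (Sum.inl i) := rfl
theorem ps_false (i : Fin m) : ps i false = Sum.inr (Sum.inr i) := rfl

theorem ps_ne_pd (i : Fin m) (ε : Bool) : ps i ε ≠ (pd : Idx m) := by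
  unfold ps pd; simp

theorem ps_injective {i j : Fin m} {ε δ : Bool} (h : ps i ε = ps j δ) : i = j ∧ ε = δ := by
  unfold ps at h
  cases ε <;> cases δ <;> simp at h <;> simp [h]

theorem ps_eq_iff {i j : Fin m} {ε δ : Bool} : ps i ε = ps j δ ↔ i = j ∧ ε = δ :=
  ⟨ps_injective, fun h => by rw [h.1, h.2]⟩

/-- every position is `pd` or some `ps i ε` -/
theorem idx_cases (a : Idx m) : a = pd ∨ ∃ i ε, a = ps i ε := by
  rcases a with u | (i | i)
  · left; rfl
  · right; exact ⟨i, true, rfl⟩
  · right; exact ⟨i, false, rfl⟩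

/-- the anisotropic basis vector -/
def dv : Idx m → F := Pi.single pd 1

/-- the singular basis vectors -/
def sb (i : Fin m) (ε : Bool) : Idx m → F := Pi.single (ps i ε) 1

/-- the polar form, explicitly -/
def bf (u v : Idx m → F) : F :=
  2 * u pd * v pd + ∑ i : Fin m, (u (ps i true) * v (ps i false) + u (ps i false) * v (ps i true))

theorem polar_eq_bf (u v : Idx m → F) :
    QuadraticMap.polar (Cfsg.quadFormOdd m F) u v = bf u v := by
  unfold QuadraticMap.polar Cfsg.quadFormOdd bf
  simp only [Pi.add_apply, ps_true, ps_false, pd]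
  rw [Finset.sum_add_distrib]
  have : ∑ i : Fin m, (u (Sum.inr (Sum.inl i)) + v (Sum.inr (Sum.inl i))) *
      (u (Sum.inr (Sum.inr i)) + v (Sum.inr (Sum.inr i)))
      = ∑ i : Fin m, u (Sum.inr (Sum.inl i)) * u (Sum.inr (Sum.inr i))
        + ∑ i : Fin m, v (Sum.inr (Sum.inl i)) * v (Sum.inr (Sum.inr i))
        + (∑ i : Fin m, u (Sum.inr (Sum.inl i)) * v (Sum.inr (Sum.inr i))
        + ∑ i : Fin m, u (Sum.inr (Sum.inr i)) * v (Sum.inr (Sum.inl i))) := by
    rw [← Finset.sum_add_distrib, ← Finset.sum_add_distrib, ← Finset.sum_add_distrib]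
    refine Finset.sum_congr rfl fun i _ => ?_
    ring
  rw [this]
  ring

theorem bf_comm (u v : Idx m → F) : bf u v = bf v u := by
  unfold bf
  congr 1
  · ring
  · refine Finset.sum_congr rfl fun i _ => ?_
    ring

theorem bf_sb_right (u : Idx m → F) (i : Fin m) (ε : Bool) : bf u (sb i ε) = u (ps i (!ε)) := by
  unfold bf sb
  have h0 : (Pi.single (ps i ε) (1 : F) : Idx m → F) pd = 0 := by
    rw [Pi.single_apply, if_neg (ps_ne_pd i ε).symm]
  rw [h0, mul_zero, zero_add]
  cases ε
  · simp only [Bool.not_false]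
    rw [Finset.sum_eq_single i]
    · simp [Pi.single_apply, ps_eq_iff]
    · intro j _ hj
      simp [Pi.single_apply, ps_eq_iff, hj]
    · simp
  · simp only [Bool.not_true]
    rw [Finset.sum_eq_single i]
    · simp [Pi.single_apply, ps_eq_iff]
    · intro j _ hj
      simp [Pi.single_apply, ps_eq_iff, hj]
    · simp

theorem bf_sb_left (u : Idx m → F) (i : Fin m) (ε : Bool) : bf (sb i ε) u = u (ps i (!ε)) := by
  rw [bf_comm, bf_sb_right]

theorem bf_dv_right (u : Idx m → F) : bf u (dv : Idx m → F) = 2 * u pd := by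
  unfold bf dv
  have h1 : ∀ (i : Fin m) (ε : Bool), (Pi.single pd (1 : F) : Idx m → F) (ps i ε) = 0 := by
    intro i ε
    rw [Pi.single_apply, if_neg (ps_ne_pd i ε)]
  simp only [h1, mul_zero, add_zero, Finset.sum_const_zero, Pi.single_eq_same, mul_one]

theorem bf_dv_left (u : Idx m → F) : bf (dv : Idx m → F) u = 2 * u pd := by
  rw [bf_comm, bf_dv_right]

theorem Q_sb (i : Fin m) (ε : Bool) : Cfsg.quadFormOdd m F (sb i ε) = 0 := by
  unfold Cfsg.quadFormOdd sb
  have h0 : (Pi.single (ps i ε) (1 : F) : Idx m → F) (Sum.inl ()) = 0 := by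
    have := ps_ne_pd i ε
    rw [Pi.single_apply, if_neg (fun h => this h.symm)]
  rw [h0]
  simp only [ne_eq, OfNat.ofNat_ne_zero, not_false_eq_true, zero_pow, zero_add]
  apply Finset.sum_eq_zero
  intro j _
  cases ε
  · have : (Pi.single (ps i false) (1 : F) : Idx m → F) (Sum.inr (Sum.inl j)) = 0 := by
      rw [Pi.single_apply, if_neg]
      intro h
      have := (ps_injective (i := j) (ε := true) (j := i) (δ := false) h).2
      simp at this
    rw [this, zero_mul]
  · have : (Pi.single (ps i true) (1 : F) : Idx m → F) (Sum.inr (Sum.inr j)) = 0 := by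
      rw [Pi.single_apply, if_neg]
      intro h
      have := (ps_injective (i := j) (ε := false) (j := i) (δ := true) h).2
      simp at this
    rw [this, mul_zero]

theorem Q_dv : Cfsg.quadFormOdd m F (dv : Idx m → F) = 1 := by
  unfold Cfsg.quadFormOdd dv
  simp [pd]

/-! ### bilinearity of `bf` -/

theorem bf_add_left (u u' v : Idx m → F) : bf (u + u') v = bf u v + bf u' v := by
  unfold bf
  simp only [Pi.add_apply, add_mul, mul_add, Finset.sum_add_distrib]
  ring

theorem bf_add_right (u v v' : Idx m → F) : bf u (v + v') = bf u v + bf u v' := by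
  rw [bf_comm, bf_add_left, bf_comm v u, bf_comm v' u]

theorem bf_smul_left (c : F) (u v : Idx m → F) : bf (c • u) v = c * bf u v := by
  unfold bf
  simp only [Pi.smul_apply, smul_eq_mul, mul_add, Finset.mul_sum]
  congr 1
  · ring
  · refine Finset.sum_congr rfl fun i _ => ?_
    ring

theorem bf_smul_right (c : F) (u v : Idx m → F) : bf u (c • v) = c * bf u v := by
  rw [bf_comm, bf_smul_left, bf_comm]

theorem bf_neg_left (u v : Idx m → F) : bf (-u) v = -bf u v := by
  have := bf_smul_left (-1 : F) u v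
  rwa [neg_one_smul, neg_one_mul] at this

theorem bf_neg_right (u v : Idx m → F) : bf u (-v) = -bf u v := by
  rw [bf_comm, bf_neg_left, bf_comm]

theorem bf_sub_left (u u' v : Idx m → F) : bf (u - u') v = bf u v - bf u' v := by
  rw [sub_eq_add_neg, bf_add_left, bf_neg_left, ← sub_eq_add_neg]

theorem bf_sub_right (u v v' : Idx m → F) : bf u (v - v') = bf u v - bf u v' := by
  rw [sub_eq_add_neg, bf_add_right, bf_neg_right, ← sub_eq_add_neg]

theorem bf_zero_left (v : Idx m → F) : bf (0 : Idx m → F) v = 0 := by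
  unfold bf; simp

theorem bf_zero_right (v : Idx m → F) : bf v (0 : Idx m → F) = 0 := by
  unfold bf; simp

theorem Q_add (u v : Idx m → F) :
    Cfsg.quadFormOdd m F (u + v) = Cfsg.quadFormOdd m F u + Cfsg.quadFormOdd m F v + bf u v := by
  have := polar_eq_bf u v
  unfold QuadraticMap.polar at this
  linear_combination this

theorem Q_smul (c : F) (v : Idx m → F) :
    Cfsg.quadFormOdd m F (c • v) = c * c * Cfsg.quadFormOdd m F v := by
  simp only [Cfsg.quadFormOdd, Pi.smul_apply, smul_eq_mul, mul_add, Finset.mul_sum]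
  congr 1
  · ring
  · refine Finset.sum_congr rfl fun i _ => ?_
    ring

theorem Q_neg (v : Idx m → F) : Cfsg.quadFormOdd m F (-v) = Cfsg.quadFormOdd m F v := by
  have := Q_smul (-1 : F) v
  rw [neg_one_smul] at this
  rw [this]; ring

theorem Q_zero : Cfsg.quadFormOdd m F (0 : Idx m → F) = 0 := by
  have := Q_smul (0 : F) (0 : Idx m → F)
  rw [zero_smul] at this
  rw [this]; ring

theorem bf_self (v : Idx m → F) : bf v v = 2 * Cfsg.quadFormOdd m F v := by
  have h1 := Q_add v v
  have h2 : v + v = (2 : F) • v := (two_smul F v).symm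
  rw [h2, Q_smul] at h1
  linear_combination -h1

/-- nondegeneracy in coordinates -/
theorem eq_zero_of_bf (h2 : (2 : F) ≠ 0) (v : Idx m → F) (h : ∀ w, bf v w = 0) : v = 0 := by
  funext a
  rcases idx_cases a with rfl | ⟨i, ε, rfl⟩
  · have := h dv
    rw [bf_dv_right] at this
    rcases mul_eq_zero.mp this with h' | h'
    · exact absurd h' h2
    · exact h'
  · have := h (sb i (!ε))
    rw [bf_sb_right, Bool.not_not] at this
    exact this

end Cfsg.Agent.Lib.Helper48.OSub
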