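import Mathlib
import Cfsg.Agent.Lib.Helper48.OSub.Basic

set_option autoImplicit false
set_option linter.unusedSectionVars false
set_option linter.unusedVariables false
set_option linter.unusedSimpArgs false

/-! Subfield subgroups of the odd-dimensional orthogonal groups: the isometry group acting,
Siegel elements, rationality. -/

namespace Cfsg.Agent.Lib.Helper48.OSub

open scoped Matrix
open Matrix Cfsg.Agent.Lib.Helper43 Cfsg.Agent.Lib.Helper48.Subfield

variable {F : Type*} [Field F] {m : ℕ}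

/-- the quadratic form, bundled -/
noncomputable abbrev Qf (m : ℕ) (h2 : (2 : F) ≠ 0) : QuadraticForm F (Idx m → F) :=
  (qdataOdd43 m h2).qf

theorem Qf_apply (h2 : (2 : F) ≠ 0) (v : Idx m → F) : Qf m h2 v = Cfsg.quadFormOdd m F v := rfl

theorem Qf_nd (h2 : (2 : F) ≠ 0) : (QuadraticMap.polarBilin (Qf m h2)).Nondegenerate :=
  (qdataOdd43 m h2).qf_nondeg

theorem pb_eq (h2 : (2 : F) ≠ 0) (u v : Idx m → F) :
    QuadraticMap.polarBilin (Qf m h2) u v = bf u v := by
  rw [QuadraticMap.polarBilin_apply_apply]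
  exact polar_eq_bf u v

/-- the isometry group -/
abbrev OG (m : ℕ) (h2 : (2 : F) ≠ 0) := ↥(Cfsg.isometryGroup F ⇑(Qf m h2))

variable (h2 : (2 : F) ≠ 0)

/-- the action -/
noncomputable def act (g : OG m h2) (v : Idx m → F) : Idx m → F := linOf (Qf m h2) g v

theorem act_def (g : OG m h2) (v : Idx m → F) : act h2 g v = linOf (Qf m h2) g v := rfl

theorem act_eq_mulVec (g : OG m h2) (v : Idx m → F) :
    act h2 g v = ((g : GL (Idx m) F) : Matrix (Idx m) (Idx m) F) *ᵥ v := linOf_apply _ g v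

theorem act_mul (g h : OG m h2) (v : Idx m → F) : act h2 (g * h) v = act h2 g (act h2 h v) := by
  unfold act
  rw [linOf_mul]
  rfl

theorem act_one (v : Idx m → F) : act h2 (1 : OG m h2) v = v := by
  unfold act
  rw [linOf_one]
  rfl

theorem act_inv_act (g : OG m h2) (v : Idx m → F) : act h2 g⁻¹ (act h2 g v) = v :=
  linOf_inv_apply _ g v

theorem act_act_inv (g : OG m h2) (v : Idx m → F) : act h2 g (act h2 g⁻¹ v) = v :=
  linOf_apply_inv _ g v

theorem act_add (g : OG m h2) (u v : Idx m → F) : act h2 g (u + v) = act h2 g u + act h2 g v :=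
  map_add _ u v

theorem act_sub (g : OG m h2) (u v : Idx m → F) : act h2 g (u - v) = act h2 g u - act h2 g v :=
  map_sub _ u v

theorem act_neg (g : OG m h2) (u : Idx m → F) : act h2 g (-u) = -act h2 g u :=
  map_neg _ u

theorem act_smul (g : OG m h2) (c : F) (v : Idx m → F) : act h2 g (c • v) = c • act h2 g v :=
  map_smul _ c v

theorem act_zero (g : OG m h2) : act h2 g (0 : Idx m → F) = 0 := map_zero _

theorem Q_act (g : OG m h2) (v : Idx m → F) :
    Cfsg.quadFormOdd m F (act h2 g v) = Cfsg.quadFormOdd m F v :=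
  linOf_isometry (Qf m h2) g v

theorem bf_act (g : OG m h2) (u v : Idx m → F) : bf (act h2 g u) (act h2 g v) = bf u v := by
  rw [← pb_eq h2, ← pb_eq h2]
  exact polar_of_isometry (Qf m h2) (linOf (Qf m h2) g) (linOf_isometry (Qf m h2) g) u v

theorem bf_act_left (g : OG m h2) (u v : Idx m → F) : bf (act h2 g u) v = bf u (act h2 g⁻¹ v) := by
  rw [← bf_act h2 g⁻¹, act_inv_act]

theorem ext_act {g h : OG m h2} (hgh : ∀ v, act h2 g v = act h2 h v) : g = h := by
  apply linOf_injective (Qf m h2)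
  apply LinearMap.ext
  exact hgh

theorem act_injective (g : OG m h2) {u v : Idx m → F} (h : act h2 g u = act h2 g v) : u = v := by
  have := congrArg (act h2 g⁻¹) h
  rwa [act_inv_act, act_inv_act] at this

/-! ### Siegel elements -/

variable [Fintype F]

/-- the Siegel element -/
noncomputable def sg (u z : Idx m → F) : OG m h2 := siegelO (Qf m h2) (Qf_nd h2) u z

theorem sg_act (u z : Idx m → F) (hu : Cfsg.quadFormOdd m F u = 0) (huz : bf u z = 0)
    (v : Idx m → F) :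
    act h2 (sg h2 u z) v
      = v + (bf v z - Cfsg.quadFormOdd m F z * bf v u) • u - bf v u • z := by
  unfold act sg
  rw [linOf_siegelO (Qf m h2) (Qf_nd h2) u z hu (by rw [pb_eq]; exact huz), siegelLin_apply,
    pb_eq, pb_eq, neg_smul, ← sub_eq_add_neg]
  rfl

theorem card_idx (hm : 3 ≤ m) : 7 ≤ Fintype.card (Idx m) := by
  rw [Fintype.card_sum, Fintype.card_sum, Fintype.card_fin, Fintype.card_unit]; omega

theorem sg_mem_Omega (hm : 3 ≤ m) (u z : Idx m → F) (hu : Cfsg.quadFormOdd m F u = 0)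
    (huz : bf u z = 0) : sg h2 u z ∈ Cfsg.Omega F ⇑(Qf m h2) :=
  siegelO_mem_Omega (Qf m h2) (Qf_nd h2) (card_idx hm) u z hu (by rw [pb_eq]; exact huz)

theorem sg_add (u z z' : Idx m → F) (hu : Cfsg.quadFormOdd m F u = 0) (huz : bf u z = 0)
    (huz' : bf u z' = 0) : sg h2 u (z + z') = sg h2 u z * sg h2 u z' :=
  siegelO_add (Qf m h2) (Qf_nd h2) u z z' hu (by rw [pb_eq]; exact huz) (by rw [pb_eq]; exact huz')

theorem sg_zero (u : Idx m → F) (hu : Cfsg.quadFormOdd m F u = 0) : sg h2 u 0 = 1 :=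
  siegelO_zero (Qf m h2) (Qf_nd h2) u hu

theorem sg_inv (u z : Idx m → F) (hu : Cfsg.quadFormOdd m F u = 0) (huz : bf u z = 0) :
    (sg h2 u z)⁻¹ = sg h2 u (-z) :=
  siegelO_inv (Qf m h2) (Qf_nd h2) u z hu (by rw [pb_eq]; exact huz)

theorem sg_conj (g : OG m h2) (u z : Idx m → F) (hu : Cfsg.quadFormOdd m F u = 0)
    (huz : bf u z = 0) : g * sg h2 u z * g⁻¹ = sg h2 (act h2 g u) (act h2 g z) :=
  siegelO_conj (Qf m h2) (Qf_nd h2) g u z hu (by rw [pb_eq]; exact huz)

theorem sg_smul_left (c : F) (u z : Idx m → F) (hu : Cfsg.quadFormOdd m F u = 0)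
    (huz : bf u z = 0) : sg h2 (c • u) z = sg h2 u (c • z) :=
  siegelO_smul_left (Qf m h2) (Qf_nd h2) c u z hu (by rw [pb_eq]; exact huz)

/-- adding a multiple of the centre does not change the Siegel element -/
theorem sg_add_smul (u z : Idx m → F) (c : F) (hu : Cfsg.quadFormOdd m F u = 0)
    (huz : bf u z = 0) : sg h2 u (z + c • u) = sg h2 u z := by
  have huu : bf u u = 0 := by rw [bf_self, hu, mul_zero]
  apply ext_act h2
  intro v
  have h1 : bf u (z + c • u) = 0 := by rw [bf_add_right, bf_smul_right, huz, huu]; ring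
  rw [sg_act h2 u _ hu h1, sg_act h2 u z hu huz, bf_add_right, bf_smul_right,
    Q_add, Q_smul, hu, bf_smul_right, bf_comm z u, huz]
  simp only [mul_zero, add_zero, smul_add, smul_smul]
  module

/-- the commutator formula -/
theorem sg_comm (u w v y : Idx m → F) (hu : Cfsg.quadFormOdd m F u = 0)
    (hw : Cfsg.quadFormOdd m F w = 0) (huw : bf u w = 0) (huv : bf u v = 0) (huy : bf u y = 0)
    (hwy : bf w y = 0) (hvw : bf v w = 0) (hvy : bf v y = 1) :
    sg h2 w y * sg h2 u v * (sg h2 w y)⁻¹ * (sg h2 u v)⁻¹ = sg h2 u w := by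
  have := siegel_commutator (Qf m h2) (Qf_nd h2) u w v y hu hw (by rw [pb_eq]; exact huw)
    (by rw [pb_eq]; exact huv) (by rw [pb_eq]; exact huy) (by rw [pb_eq]; exact hwy)
    (by rw [pb_eq]; exact hvw) (by rw [pb_eq]; exact hvy)
  rw [commutatorElement_def] at this
  exact this

/-- swapping the two singular arguments -/
theorem sg_swap (u w : Idx m → F) (hu : Cfsg.quadFormOdd m F u = 0)
    (hw : Cfsg.quadFormOdd m F w = 0) (huw : bf u w = 0) : sg h2 u w = sg h2 w (-u) := by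
  apply ext_act h2
  intro v
  have h1 : bf w (-u) = 0 := by rw [bf_neg_right, bf_comm, huw, neg_zero]
  rw [sg_act h2 u w hu huw, sg_act h2 w (-u) hw h1, hw, Q_neg, hu, bf_neg_right]
  module

/-! ### rationality -/

/-- rational elements of the isometry group -/
def RatO (F₀ : Subfield F) (g : OG m h2) : Prop :=
  RatMat F₀ ((g : GL (Idx m) F) : Matrix (Idx m) (Idx m) F)

variable {F₀ : Subfield F}

theorem RatO.act {g : OG m h2} (hg : RatO h2 F₀ g) {v : Idx m → F} (hv : Rat F₀ v) :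
    Rat F₀ (act h2 g v) := by
  rw [act_eq_mulVec]
  exact RatMat.mulVec hg hv

theorem ratO_of_maps {g : OG m h2} (h : ∀ a : Idx m, Rat F₀ (act h2 g (Pi.single a 1))) :
    RatO h2 F₀ g := by
  intro i j
  have := h j i
  rw [act_eq_mulVec, Matrix.mulVec_single_one] at this
  exact this

theorem RatO.one : RatO h2 F₀ (1 : OG m h2) := RatMat.one F₀

theorem RatO.mul {g h : OG m h2} (hg : RatO h2 F₀ g) (hh : RatO h2 F₀ h) : RatO h2 F₀ (g * h) :=
  RatMat.mul hg hh

theorem RatO.inv {g : OG m h2} (hg : RatO h2 F₀ g) : RatO h2 F₀ g⁻¹ :=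
  ratMat_inv_of_mem_G0 (mem_G0_of_ratMat hg)

theorem two_mem (F₀ : Subfield F) : (2 : F) ∈ F₀ := by
  have : (2 : F) = 1 + 1 := by norm_num
  rw [this]
  exact F₀.add_mem F₀.one_mem F₀.one_mem

theorem rat_bf {u v : Idx m → F} (hu : Rat F₀ u) (hv : Rat F₀ v) : bf u v ∈ F₀ := by
  unfold bf
  refine F₀.add_mem (F₀.mul_mem (F₀.mul_mem (two_mem F₀) (hu _)) (hv _)) (F₀.sum_mem fun i _ => ?_)
  exact F₀.add_mem (F₀.mul_mem (hu _) (hv _)) (F₀.mul_mem (hu _) (hv _))

theorem rat_Q {u : Idx m → F} (hu : Rat F₀ u) : Cfsg.quadFormOdd m F u ∈ F₀ := by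
  unfold Cfsg.quadFormOdd
  refine F₀.add_mem (F₀.pow_mem (hu _) 2) (F₀.sum_mem fun i _ => F₀.mul_mem (hu _) (hu _))

theorem rat_sb (F₀ : Subfield F) (i : Fin m) (ε : Bool) : Rat F₀ (sb i ε : Idx m → F) :=
  Rat.single F₀ _ F₀.one_mem

theorem rat_dv (F₀ : Subfield F) : Rat F₀ (dv : Idx m → F) := Subfield.Rat.single F₀ _ F₀.one_mem

theorem rat_sg {u z : Idx m → F} (hu : Rat F₀ u) (hz : Rat F₀ z)
    (hu0 : Cfsg.quadFormOdd m F u = 0) (huz : bf u z = 0) : RatO h2 F₀ (sg h2 u z) := by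
  apply ratO_of_maps
  intro a
  rw [sg_act h2 u z hu0 huz]
  have hv : Rat F₀ (Pi.single a 1 : Idx m → F) := Subfield.Rat.single F₀ a F₀.one_mem
  exact Subfield.Rat.sub (Subfield.Rat.add hv (Subfield.Rat.smul (F₀.sub_mem (rat_bf hv hz)
    (F₀.mul_mem (rat_Q hz) (rat_bf hv hu))) hu)) (Subfield.Rat.smul (rat_bf hv hu) hz)

/-! ### rational up to a scalar -/

theorem det_mem_of_ratMat {ι : Type} [Fintype ι] [DecidableEq ι] {M : Matrix ι ι F}
    (h : RatMat F₀ M) : M.det ∈ F₀ := by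
  set M₀ : Matrix ι ι F₀ := fun i j => ⟨M i j, h i j⟩ with hM₀
  have hmap : M₀.map (F₀.subtype) = M := by
    ext i j; rfl
  have h1 : (F₀.subtype : F₀ →+* F) M₀.det = (M₀.map (F₀.subtype)).det := by
    rw [RingHom.map_det]; rfl
  rw [hmap] at h1
  rw [← h1]
  exact (M₀.det).2

theorem det_eq_one_of_mem_Omega {g : OG m h2} (hg : g ∈ Cfsg.Omega F ⇑(Qf m h2)) :
    ((g : GL (Idx m) F) : Matrix (Idx m) (Idx m) F).det = 1 := by
  let φ : OG m h2 →* Fˣ :=
    (Matrix.GeneralLinearGroup.det).comp (Cfsg.isometryGroup F ⇑(Qf m h2)).subtype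
  have h1 : g ∈ φ.ker := Abelianization.commutator_subset_ker φ hg
  rw [MonoidHom.mem_ker] at h1
  have h3 : ((φ g : Fˣ) : F) = 1 := by rw [h1]; rfl
  exact h3

/-- an element of `Ω` that is rational up to a scalar is rational -/
theorem ratO_of_scalar {g : OG m h2} (hg : g ∈ Cfsg.Omega F ⇑(Qf m h2)) (c : F) (hc : c ≠ 0)
    (h : ∀ a : Idx m, Rat F₀ (c • act h2 g (Pi.single a 1))) : RatO h2 F₀ g := by
  set M : Matrix (Idx m) (Idx m) F := ((g : GL (Idx m) F) : Matrix (Idx m) (Idx m) F) with hM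
  have hrat : RatMat F₀ (c • M) := by
    intro i j
    have := h j i
    rw [act_eq_mulVec, Matrix.mulVec_single_one] at this
    exact this
  have hc2 : c * c ∈ F₀ := by
    have h1 : Rat F₀ (c • act h2 g (dv : Idx m → F)) := h pd
    have h3 := rat_Q h1
    rw [Q_smul, Q_act, Q_dv, mul_one] at h3
    exact h3
  have hcn : c ^ (2 * m + 1) ∈ F₀ := by
    have h1 := det_mem_of_ratMat hrat
    rw [Matrix.det_smul, hM, det_eq_one_of_mem_Omega h2 hg, mul_one, Fintype.card_sum,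
      Fintype.card_sum, Fintype.card_fin, Fintype.card_unit] at h1
    have : 1 + (m + m) = 2 * m + 1 := by ring
    rwa [this] at h1
  have hcF : c ∈ F₀ := by
    have h1 : c = c ^ (2 * m + 1) * ((c * c)⁻¹) ^ m := by
      rw [pow_succ, pow_mul, ← pow_two, inv_pow]
      field_simp
    rw [h1]
    exact F₀.mul_mem hcn (F₀.pow_mem (F₀.inv_mem hc2) m)
  show RatMat F₀ M
  intro i j
  have h1 := hrat i j
  rw [Matrix.smul_apply, smul_eq_mul] at h1
  have h3 : M i j = c⁻¹ * (c * M i j) := by field_simp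
  rw [h3]
  exact F₀.mul_mem (F₀.inv_mem hcF) h1

/-- the key lemma: a Siegel element moving `a` to `b` -/
theorem sg_key (a b u : Idx m → F) (hu : Cfsg.quadFormOdd m F u = 0)
    (hab : Cfsg.quadFormOdd m F a = Cfsg.quadFormOdd m F b) (hβ : bf a u = bf b u)
    (hβ0 : bf a u ≠ 0) :
    bf u ((bf a u)⁻¹ • (a - b)) = 0 ∧ act h2 (sg h2 u ((bf a u)⁻¹ • (a - b))) a = b := by
  have h1 : bf u ((bf a u)⁻¹ • (a - b)) = 0 := by
    rw [bf_smul_right, bf_sub_right, bf_comm u a, bf_comm u b, hβ, sub_self, mul_zero]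
  refine ⟨h1, ?_⟩
  have := siegelLin_key (Qf m h2) a b u hab (by rw [pb_eq, pb_eq]; exact hβ)
    (by rw [pb_eq]; exact hβ0)
  rw [pb_eq] at this
  unfold act sg
  rw [linOf_siegelO (Qf m h2) (Qf_nd h2) u _ hu (by rw [pb_eq]; exact h1)]
  exact this

end Cfsg.Agent.Lib.Helper48.OSub
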