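import Mathlib
import Cfsg.Agent.Lib.Helper48.OSub.Group
import Cfsg.Agent.Lib.Helper48.Subfield.Ring

set_option autoImplicit false
set_option linter.unusedSectionVars false
set_option linter.unusedVariables false
set_option linter.unusedSimpArgs false

/-! Subfield subgroups of the odd-dimensional orthogonal groups: the coefficient lemma. -/

namespace Cfsg.Agent.Lib.Helper48.OSub

open scoped Matrix
open Matrix Cfsg.Agent.Lib.Helper43 Cfsg.Agent.Lib.Helper48.Subfield

variable {F : Type*} [Field F] [Fintype F] {m : ℕ} (h2 : (2 : F) ≠ 0)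

/-- the standing hypotheses on the overgroup `K` -/
structure OSetup (F₀ : Subfield F) (K : Subgroup (OG m h2)) : Prop where
  hm : 6 ≤ m
  hKΩ : K ≤ Cfsg.Omega F ⇑(Qf m h2)
  hK0 : ∀ g ∈ Cfsg.Omega F ⇑(Qf m h2), RatO h2 F₀ g → g ∈ K
  hne : ∃ g ∈ Cfsg.Omega F ⇑(Qf m h2), g ∉ K
  hfield : ∀ S : Subalgebra F₀ F, S = ⊥ ∨ S = ⊤

/-! ### coordinates of basis vectors -/

theorem sb_apply_ps (j l : Fin m) (δ ε : Bool) :
    (sb j δ : Idx m → F) (ps l ε) = if l = j ∧ ε = δ then 1 else 0 := by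
  unfold sb
  rw [Pi.single_apply]
  simp only [ps_eq_iff]

theorem sb_apply_pd (j : Fin m) (δ : Bool) : (sb j δ : Idx m → F) pd = 0 := by
  unfold sb
  rw [Pi.single_apply, if_neg (ps_ne_pd j δ).symm]

theorem dv_apply_ps (l : Fin m) (ε : Bool) : (dv : Idx m → F) (ps l ε) = 0 := by
  unfold dv
  rw [Pi.single_apply, if_neg (ps_ne_pd l ε)]

theorem dv_apply_pd : (dv : Idx m → F) pd = 1 := by
  unfold dv
  rw [Pi.single_eq_same]

theorem bf_sb_sb (i j : Fin m) (ε δ : Bool) :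
    bf (sb i ε : Idx m → F) (sb j δ) = if i = j ∧ (!δ) = ε then 1 else 0 := by
  rw [bf_sb_right, sb_apply_ps]
  by_cases h : i = j
  · subst h; simp
  · have : ¬ j = i := fun h' => h h'.symm
    simp [h, this]

theorem bf_sb_sb_ne {i j : Fin m} (h : i ≠ j) (ε δ : Bool) :
    bf (sb i ε : Idx m → F) (sb j δ) = 0 := by
  rw [bf_sb_sb, if_neg]
  exact fun h' => h h'.1

theorem bf_sb_dv (i : Fin m) (ε : Bool) : bf (sb i ε : Idx m → F) dv = 0 := by
  rw [bf_dv_right, sb_apply_pd, mul_zero]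

theorem bf_dv_sb (i : Fin m) (ε : Bool) : bf (dv : Idx m → F) (sb i ε) = 0 := by
  rw [bf_comm, bf_sb_dv]

theorem bool_eq_not_of_ne {ε ε' : Bool} (h : ¬ ε' = ε) : ε = !ε' := by
  cases ε <;> cases ε' <;> simp at h ⊢

variable {h2}
variable {F₀ : Subfield F} {K : Subgroup (OG m h2)}

/-- the additive group of `w` with `ρ_{s,w} ∈ K` -/
def Lam (K : Subgroup (OG m h2)) (s : Idx m → F) (hs : Cfsg.quadFormOdd m F s = 0) :
    AddSubgroup (Idx m → F) where
  carrier := {w | bf s w = 0 ∧ sg h2 s w ∈ K}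
  zero_mem' := ⟨bf_zero_right s, by rw [sg_zero h2 s hs]; exact K.one_mem⟩
  add_mem' := fun {a b} ha hb =>
    ⟨by rw [bf_add_right, ha.1, hb.1, add_zero],
      by rw [sg_add h2 s a b hs ha.1 hb.1]; exact K.mul_mem ha.2 hb.2⟩
  neg_mem' := fun {a} ha =>
    ⟨by rw [bf_neg_right, ha.1, neg_zero],
      by rw [← sg_inv h2 s a hs ha.1]; exact K.inv_mem ha.2⟩

theorem mem_Lam {s : Idx m → F} {hs : Cfsg.quadFormOdd m F s = 0} {w : Idx m → F} :
    w ∈ Lam K s hs ↔ bf s w = 0 ∧ sg h2 s w ∈ K := Iff.rfl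

/-- the group `Λ` at a singular basis vector -/
abbrev LamB (K : Subgroup (OG m h2)) (i : Fin m) (ε : Bool) : AddSubgroup (Idx m → F) :=
  Lam K (sb i ε) (Q_sb i ε)

/-- the coefficient set -/
def AA (K : Subgroup (OG m h2)) : Set F :=
  {a | ∀ (i j : Fin m) (ε δ : Bool), j ≠ i → a • (sb j δ : Idx m → F) ∈ LamB K i ε}

theorem mem_AA {a : F} : a ∈ AA K ↔
    ∀ (i j : Fin m) (ε δ : Bool), j ≠ i → a • (sb j δ : Idx m → F) ∈ LamB K i ε := Iff.rfl

namespace OSetup

/-- rational Siegel elements lie in `K` -/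
theorem sg_mem (S : OSetup h2 F₀ K) {u z : Idx m → F} (hu : Rat F₀ u) (hz : Rat F₀ z)
    (hu0 : Cfsg.quadFormOdd m F u = 0) (huz : bf u z = 0) : sg h2 u z ∈ K :=
  S.hK0 _ (sg_mem_Omega h2 (by have := S.hm; omega) u z hu0 huz) (rat_sg h2 hu hz hu0 huz)

theorem rat_mem_Lam (S : OSetup h2 F₀ K) {s w : Idx m → F} (hs : Cfsg.quadFormOdd m F s = 0)
    (hsr : Rat F₀ s) (hw : Rat F₀ w) (hsw : bf s w = 0) : w ∈ Lam K s hs :=
  ⟨hsw, S.sg_mem hsr hw hs hsw⟩

theorem smul_self_mem_Lam (S : OSetup h2 F₀ K) {s : Idx m → F}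
    (hs : Cfsg.quadFormOdd m F s = 0) (c : F) : c • s ∈ Lam K s hs := by
  have hss : bf s s = 0 := by rw [bf_self, hs, mul_zero]
  refine ⟨by rw [bf_smul_right, hss, mul_zero], ?_⟩
  have := sg_add_smul h2 s 0 c hs (bf_zero_right s)
  rw [zero_add] at this
  rw [this, sg_zero h2 s hs]
  exact K.one_mem

/-- invariance of `Λ_s` under rational Siegel elements fixing `s` -/
theorem lam_diff (S : OSetup h2 F₀ K) {s : Idx m → F} (hs : Cfsg.quadFormOdd m F s = 0)
    {w : Idx m → F} (hw : w ∈ Lam K s hs) {p z : Idx m → F}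
    (hp0 : Cfsg.quadFormOdd m F p = 0) (hpr : Rat F₀ p) (hzr : Rat F₀ z) (hpz : bf p z = 0)
    (hps : bf s p = 0) (hzs : bf s z = 0) :
    (bf w z - Cfsg.quadFormOdd m F z * bf w p) • p - bf w p • z ∈ Lam K s hs := by
  have hk : sg h2 p z ∈ K := S.sg_mem hpr hzr hp0 hpz
  have hfix : act h2 (sg h2 p z) s = s := by
    rw [sg_act h2 p z hp0 hpz, hzs, hps]
    simp
  have h1 : sg h2 p z * sg h2 s w * (sg h2 p z)⁻¹ ∈ K := K.mul_mem (K.mul_mem hk hw.2) (K.inv_mem hk)
  rw [sg_conj h2 _ s w hs hw.1, hfix] at h1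
  have h2' : act h2 (sg h2 p z) w ∈ Lam K s hs := by
    refine ⟨?_, h1⟩
    have := bf_act h2 (sg h2 p z) s w
    rw [hfix] at this
    rw [this]; exact hw.1
  have h3 := (Lam K s hs).sub_mem h2' hw
  rw [sg_act h2 p z hp0 hpz] at h3
  have : w + (bf w z - Cfsg.quadFormOdd m F z * bf w p) • p - bf w p • z - w
      = (bf w z - Cfsg.quadFormOdd m F z * bf w p) • p - bf w p • z := by abel
  rw [this] at h3
  exact h3

theorem lam_diff_ss (S : OSetup h2 F₀ K) {i : Fin m} {ε : Bool} {w : Idx m → F}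
    (hw : w ∈ LamB K i ε) {j k : Fin m} (ε₁ ε₂ : Bool) (hji : j ≠ i) (hki : k ≠ i)
    (hjk : j ≠ k) :
    w (ps k (!ε₂)) • (sb j ε₁ : Idx m → F) - w (ps j (!ε₁)) • (sb k ε₂ : Idx m → F)
      ∈ LamB K i ε := by
  have := S.lam_diff (Q_sb i ε) hw (Q_sb j ε₁) (rat_sb F₀ j ε₁) (rat_sb F₀ k ε₂)
    (bf_sb_sb_ne hjk ε₁ ε₂) (bf_sb_sb_ne hji.symm ε ε₁) (bf_sb_sb_ne hki.symm ε ε₂)
  rw [Q_sb, zero_mul, sub_zero, bf_sb_right, bf_sb_right] at this
  exact this

theorem lam_diff_sd (S : OSetup h2 F₀ K) {i : Fin m} {ε : Bool} {w : Idx m → F}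
    (hw : w ∈ LamB K i ε) {j : Fin m} (ε₁ : Bool) (hji : j ≠ i) :
    (2 * w pd - w (ps j (!ε₁))) • (sb j ε₁ : Idx m → F) - w (ps j (!ε₁)) • (dv : Idx m → F)
      ∈ LamB K i ε := by
  have := S.lam_diff (Q_sb i ε) hw (Q_sb j ε₁) (rat_sb F₀ j ε₁) (rat_dv F₀)
    (bf_sb_dv j ε₁) (bf_sb_sb_ne hji.symm ε ε₁) (bf_sb_dv i ε)
  rw [Q_dv, one_mul, bf_sb_right, bf_dv_right] at this
  exact this

/-- isolating a coordinate (different target index) -/
theorem isolate₁ (S : OSetup h2 F₀ K) {i : Fin m} {ε : Bool} {w : Idx m → F}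
    (hw : w ∈ LamB K i ε) {k l : Fin m} (δ ε' : Bool) (hki : k ≠ i) (hli : l ≠ i) (hlk : l ≠ k) :
    w (ps k δ) • (sb l ε' : Idx m → F) ∈ LamB K i ε := by
  have hm := S.hm
  obtain ⟨j, hji, hjk, hjl⟩ := exists_fourth (ι := Fin m) (by rw [Fintype.card_fin]; omega) i k l
  have h1 := S.lam_diff_ss hw (j := j) (k := k) true (!δ) hji hki hjk
  rw [Bool.not_not] at h1
  have h3 := S.lam_diff_ss h1 (j := l) (k := j) ε' false hli hji hjl.symm
  simp only [Pi.sub_apply, Pi.smul_apply, sb_apply_ps, smul_eq_mul, Bool.not_false] at h3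
  have e1 : ¬ (j = k ∧ true = !δ) := fun h => hjk h.1
  have e2 : ¬ (l = j ∧ (!ε') = true) := fun h => hjl h.1.symm
  have e3 : ¬ (l = k ∧ (!ε') = !δ) := fun h => hlk h.1
  rw [if_neg e1, if_neg e2, if_neg e3] at h3
  simp only [and_self, if_true, mul_one, mul_zero, sub_zero, zero_smul] at h3
  exact h3

/-- isolating a coordinate -/
theorem isolate (S : OSetup h2 F₀ K) {i : Fin m} {ε : Bool} {w : Idx m → F}
    (hw : w ∈ LamB K i ε) {k l : Fin m} (δ ε' : Bool) (hki : k ≠ i) (hli : l ≠ i) :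
    w (ps k δ) • (sb l ε' : Idx m → F) ∈ LamB K i ε := by
  by_cases hlk : l = k
  · have hm := S.hm
    obtain ⟨j, hji, hjk, -⟩ := exists_fourth (ι := Fin m) (by rw [Fintype.card_fin]; omega) i k k
    have h1 := S.isolate₁ hw (k := k) (l := j) δ true hki hji hjk
    have h3 := S.isolate₁ h1 (k := j) (l := l) true ε' hji hli (by rw [hlk]; exact hjk.symm)
    simp only [Pi.smul_apply, sb_apply_ps, smul_eq_mul, and_self, if_true, mul_one] at h3
    exact h3
  · exact S.isolate₁ hw δ ε' hki hli hlk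

/-! ### the coefficient set -/

theorem transfer (S : OSetup h2 F₀ K) {a : F} {i : Fin m} {ε : Bool}
    (h : ∀ (l : Fin m) (ε' : Bool), l ≠ i → a • (sb l ε' : Idx m → F) ∈ LamB K i ε)
    {i' : Fin m} (ε₀ : Bool) (hi' : i' ≠ i) :
    ∀ (l : Fin m) (ε' : Bool), l ≠ i' → a • (sb l ε' : Idx m → F) ∈ LamB K i' ε₀ := by
  have h1 := h i' ε₀ hi'
  have hQw : Cfsg.quadFormOdd m F (a • (sb i' ε₀ : Idx m → F)) = 0 := by
    rw [Q_smul, Q_sb, mul_zero]
  have h3 : bf (sb i' ε₀ : Idx m → F) (-(sb i ε : Idx m → F)) = 0 := by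
    rw [bf_neg_right, bf_sb_sb_ne hi', neg_zero]
  have h4 : sg h2 (sb i ε) (a • (sb i' ε₀ : Idx m → F)) = sg h2 (sb i' ε₀) ((-a) • (sb i ε : Idx m → F)) := by
    rw [sg_swap h2 _ _ (Q_sb i ε) hQw h1.1, sg_smul_left h2 a _ _ (Q_sb i' ε₀) h3, smul_neg, neg_smul]
  have h5 : (-a) • (sb i ε : Idx m → F) ∈ LamB K i' ε₀ := by
    refine ⟨by rw [bf_smul_right, bf_sb_sb_ne hi', mul_zero], ?_⟩
    rw [← h4]; exact h1.2
  intro l ε' hl
  have h6 := S.isolate h5 (k := i) (l := l) ε ε' hi'.symm hl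
  simp only [Pi.smul_apply, sb_apply_ps, smul_eq_mul, and_self, if_true, mul_one] at h6
  have h7 := (LamB K i' ε₀).neg_mem h6
  rwa [← neg_smul, neg_neg] at h7

theorem mem_AA_of_one (S : OSetup h2 F₀ K) {a : F} {i j : Fin m} {ε δ : Bool} (hji : j ≠ i)
    (h : a • (sb j δ : Idx m → F) ∈ LamB K i ε) : a ∈ AA K := by
  have hm := S.hm
  have h1 : ∀ (l : Fin m) (ε' : Bool), l ≠ i → a • (sb l ε' : Idx m → F) ∈ LamB K i ε := by
    intro l ε' hl
    have := S.isolate h (k := j) (l := l) δ ε' hji hl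
    simp only [Pi.smul_apply, sb_apply_ps, smul_eq_mul, and_self, if_true, mul_one] at this
    exact this
  rw [mem_AA]
  intro i' j' ε₀ δ' hj'
  by_cases hi' : i' = i
  · obtain ⟨i'', hi''⟩ : ∃ i'' : Fin m, i'' ≠ i := by
      obtain ⟨x, hx, -⟩ := exists_third (ι := Fin m) (by rw [Fintype.card_fin]; omega) i i
      exact ⟨x, hx⟩
    have h2' := S.transfer h1 true hi''
    have h3 := S.transfer h2' ε₀ (by rw [hi']; exact hi''.symm : i' ≠ i'')
    exact h3 j' δ' hj'
  · exact S.transfer h1 ε₀ hi' j' δ' hj'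

theorem AA_rat (S : OSetup h2 F₀ K) {a : F} (ha : a ∈ F₀) : a ∈ AA K := by
  rw [mem_AA]
  intro i j ε δ hji
  exact S.rat_mem_Lam (Q_sb i ε) (rat_sb F₀ i ε) (Subfield.Rat.smul ha (rat_sb F₀ j δ))
    (by rw [bf_smul_right, bf_sb_sb_ne hji.symm, mul_zero])

theorem AA_add (S : OSetup h2 F₀ K) {a b : F} (ha : a ∈ AA K) (hb : b ∈ AA K) : a + b ∈ AA K := by
  rw [mem_AA] at ha hb ⊢
  intro i j ε δ hji
  rw [add_smul]
  exact (LamB K i ε).add_mem (ha i j ε δ hji) (hb i j ε δ hji)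

theorem AA_mul (S : OSetup h2 F₀ K) {a b : F} (ha : a ∈ AA K) (hb : b ∈ AA K) : a * b ∈ AA K := by
  have hm := S.hm
  by_cases ha0 : a = 0
  · rw [ha0, zero_mul]
    exact S.AA_rat F₀.zero_mem
  set i : Fin m := ⟨0, by omega⟩ with hi
  set j : Fin m := ⟨1, by omega⟩ with hj
  set k : Fin m := ⟨2, by omega⟩ with hk
  have hij : i ≠ j := by intro h; simpa [hi, hj] using congrArg Fin.val h
  have hik : i ≠ k := by intro h; simpa [hi, hk] using congrArg Fin.val h
  have hjk : j ≠ k := by intro h; simpa [hj, hk] using congrArg Fin.val h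
  have h1 := (mem_AA.mp ha) i j true false hij.symm
  have h2' := (mem_AA.mp hb) k j false true hjk
  set u : Idx m → F := sb i true with hu
  set w : Idx m → F := (a * b) • sb k false with hw
  set v : Idx m → F := a • sb j false with hv
  set y : Idx m → F := a⁻¹ • sb j true with hy
  have hQu : Cfsg.quadFormOdd m F u = 0 := Q_sb i true
  have hQw : Cfsg.quadFormOdd m F w = 0 := by rw [hw, Q_smul, Q_sb, mul_zero]
  have e1 : bf u w = 0 := by rw [hw, bf_smul_right, bf_sb_sb_ne hik, mul_zero]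
  have e2 : bf u v = 0 := by rw [hv, bf_smul_right, bf_sb_sb_ne hij, mul_zero]
  have e3 : bf u y = 0 := by rw [hy, bf_smul_right, bf_sb_sb_ne hij, mul_zero]
  have e4 : bf w y = 0 := by
    rw [hw, hy, bf_smul_right, bf_smul_left, bf_sb_sb_ne hjk.symm, mul_zero, mul_zero]
  have e5 : bf v w = 0 := by
    rw [hv, hw, bf_smul_right, bf_smul_left, bf_sb_sb_ne hjk, mul_zero, mul_zero]
  have e6 : bf v y = 1 := by
    rw [hv, hy, bf_smul_right, bf_smul_left, bf_sb_sb]
    simp [inv_mul_cancel₀ ha0]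
  have key := sg_comm h2 u w v y hQu hQw e1 e2 e3 e4 e5 e6
  have hwy : sg h2 w y ∈ K := by
    have e7 : bf (sb k false : Idx m → F) y = 0 := by
      rw [hy, bf_smul_right, bf_sb_sb_ne hjk.symm, mul_zero]
    rw [hw, sg_smul_left h2 (a * b) _ _ (Q_sb k false) e7, hy, smul_smul]
    have : a * b * a⁻¹ = b := by field_simp
    rw [this]
    exact h2'.2
  have huv : sg h2 u v ∈ K := h1.2
  have huw : sg h2 u w ∈ K := by
    rw [← key]
    exact K.mul_mem (K.mul_mem (K.mul_mem hwy huv) (K.inv_mem hwy)) (K.inv_mem huv)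
  exact S.mem_AA_of_one hik.symm ⟨e1, huw⟩

/-- the coefficient subalgebra -/
def coeffAlg (S : OSetup h2 F₀ K) : Subalgebra F₀ F where
  carrier := AA K
  mul_mem' := fun ha hb => S.AA_mul ha hb
  add_mem' := fun ha hb => S.AA_add ha hb
  algebraMap_mem' := fun r => S.AA_rat r.2

theorem smul_dv_mem (S : OSetup h2 F₀ K) {a : F} (ha : a ∈ AA K) (i : Fin m) (ε : Bool) :
    a • (dv : Idx m → F) ∈ LamB K i ε := by
  have hm := S.hm
  obtain ⟨j, hji, -⟩ := exists_third (ι := Fin m) (by rw [Fintype.card_fin]; omega) i i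
  have h1 := (mem_AA.mp ha) i j ε false hji
  have h3 := (mem_AA.mp ha) i j ε true hji
  have h4 := S.lam_diff_sd h1 (j := j) true hji
  simp only [Pi.smul_apply, sb_apply_ps, sb_apply_pd, smul_eq_mul, Bool.not_true, and_self, if_true,
    mul_one, mul_zero, zero_sub] at h4
  have h5 := (LamB K i ε).neg_mem ((LamB K i ε).add_mem h4 h3)
  have : -(-a • (sb j true : Idx m → F) - a • (dv : Idx m → F) + a • (sb j true : Idx m → F))
      = a • (dv : Idx m → F) := by
    rw [neg_smul]; abel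
  rwa [this] at h5

/-- if every scalar is a coefficient, all Siegel elements at a basis vector lie in `K` -/
theorem all_mem_Lam (S : OSetup h2 F₀ K) (hall : ∀ a : F, a ∈ AA K) (i : Fin m) (ε : Bool)
    (w : Idx m → F) (hw : bf (sb i ε : Idx m → F) w = 0) : w ∈ LamB K i ε := by
  have hsum : w = ∑ a : Idx m, Pi.single a (w a) := (Finset.univ_sum_single w).symm
  rw [hsum]
  refine (LamB K i ε).sum_mem fun a _ => ?_
  rcases idx_cases a with rfl | ⟨l, ε', rfl⟩
  · have : (Pi.single pd (w pd) : Idx m → F) = w pd • (dv : Idx m → F) := by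
      unfold dv
      rw [← Pi.single_smul, smul_eq_mul, mul_one]
    rw [this]
    exact S.smul_dv_mem (hall _) i ε
  · have e : (Pi.single (ps l ε') (w (ps l ε')) : Idx m → F)
        = w (ps l ε') • (sb l ε' : Idx m → F) := by
      unfold sb
      rw [← Pi.single_smul, smul_eq_mul, mul_one]
    rw [e]
    by_cases hl : l = i
    · subst hl
      by_cases hε : ε' = ε
      · subst hε
        exact S.smul_self_mem_Lam (Q_sb l ε') _
      · have : ε = !ε' := bool_eq_not_of_ne hε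
        rw [bf_sb_left, this, Bool.not_not] at hw
        rw [hw, zero_smul]
        exact (LamB K l ε).zero_mem
    · exact (mem_AA.mp (hall _)) i l ε ε' hl

/-- if every scalar is a coefficient then `K` contains `Ω`: contradiction -/
theorem not_all (S : OSetup h2 F₀ K) : ¬ ∀ a : F, a ∈ AA K := by
  intro hall
  have hm := S.hm
  obtain ⟨g, hgΩ, hgK⟩ := S.hne
  apply hgK
  set K' : Subgroup ↥(Cfsg.Omega F ⇑(Qf m h2)) := K.comap (Cfsg.Omega F ⇑(Qf m h2)).subtype with hK'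
  have hn : 7 ≤ Fintype.card (Idx m) := card_idx (by omega)
  set i : Fin m := ⟨0, by omega⟩ with hi
  have hS : ∀ ε : Bool, SiegIn (Qf m h2) (Qf_nd h2) hn K' (sb i ε) := by
    intro ε
    refine ⟨Q_sb i ε, fun v hv => ?_⟩
    rw [pb_eq] at hv
    exact (S.all_mem_Lam hall i ε v hv).2
  have htop : K' = ⊤ := by
    apply eq_top_of_SiegIn_pair K' (sb i true) (sb i false) (hS true) (hS false)
    rw [pb_eq, bf_sb_sb]
    simp
  have : (⟨g, hgΩ⟩ : ↥(Cfsg.Omega F ⇑(Qf m h2))) ∈ K' := by rw [htop]; exact Subgroup.mem_top _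
  exact this

/-- the coefficients are rational -/
theorem AA_le (S : OSetup h2 F₀ K) {a : F} (ha : a ∈ AA K) : a ∈ F₀ := by
  rcases S.hfield S.coeffAlg with h | h
  · have h1 : a ∈ S.coeffAlg := ha
    rw [h, Algebra.mem_bot] at h1
    obtain ⟨y, rfl⟩ := h1
    exact y.2
  · exfalso
    apply S.not_all
    intro b
    have : b ∈ S.coeffAlg := by rw [h]; exact Algebra.mem_top
    exact this

/-- **the coefficient lemma**: a Siegel element of `K` centred at a singular basis vector is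
rational modulo its centre -/
theorem stepA (S : OSetup h2 F₀ K) {i : Fin m} {ε : Bool} {w : Idx m → F}
    (hw : bf (sb i ε : Idx m → F) w = 0) (hK : sg h2 (sb i ε) w ∈ K) :
    ∀ a : Idx m, a ≠ ps i ε → w a ∈ F₀ := by
  have hm := S.hm
  have hwL : w ∈ LamB K i ε := ⟨hw, hK⟩
  have hcoord : ∀ (k : Fin m) (δ : Bool), k ≠ i → w (ps k δ) ∈ AA K := by
    intro k δ hki
    obtain ⟨l, hli, hlk⟩ := exists_third (ι := Fin m) (by rw [Fintype.card_fin]; omega) i k
    exact S.mem_AA_of_one hli (S.isolate hwL (k := k) (l := l) δ true hki hli)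
  intro a ha
  rcases idx_cases a with rfl | ⟨l, ε', rfl⟩
  · obtain ⟨j, hji, -⟩ := exists_third (ι := Fin m) (by rw [Fintype.card_fin]; omega) i i
    have ha' := hcoord j false hji
    have h1 := S.lam_diff_sd hwL (j := j) true hji
    rw [Bool.not_true] at h1
    have h3 := S.smul_dv_mem ha' i ε
    have h4 := (mem_AA.mp ha') i j ε true hji
    have h5 := (LamB K i ε).add_mem ((LamB K i ε).add_mem h1 h3) h4
    have : (2 * w pd - w (ps j false)) • (sb j true : Idx m → F) - w (ps j false) • (dv : Idx m → F)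
        + w (ps j false) • (dv : Idx m → F) + w (ps j false) • (sb j true : Idx m → F)
        = (2 * w pd) • (sb j true : Idx m → F) := by
      rw [sub_smul]; abel
    rw [this] at h5
    have h6 := S.AA_le (S.mem_AA_of_one hji h5)
    have h7 : w pd = (2 : F)⁻¹ * (2 * w pd) := by field_simp
    rw [h7]
    exact F₀.mul_mem (F₀.inv_mem (two_mem F₀)) h6
  · by_cases hl : l = i
    · subst hl
      have hε : ε = !ε' := bool_eq_not_of_ne (fun h => ha (by rw [h]))
      rw [bf_sb_left, hε, Bool.not_not] at hw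
      rw [hw]
      exact F₀.zero_mem
    · exact S.AA_le (hcoord l ε' hl)

/-- a Siegel element of `K` centred at a singular basis vector is rational -/
theorem ratO_of_sg_mem (S : OSetup h2 F₀ K) {i : Fin m} {ε : Bool} {w : Idx m → F}
    (hw : bf (sb i ε : Idx m → F) w = 0) (hK : sg h2 (sb i ε) w ∈ K) :
    RatO h2 F₀ (sg h2 (sb i ε) w) := by
  have h1 := S.stepA hw hK
  have h3 := sg_add_smul h2 (sb i ε) w (-(w (ps i ε))) (Q_sb i ε) hw
  rw [← h3]
  apply rat_sg h2 (rat_sb F₀ i ε) _ (Q_sb i ε)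
  · rw [bf_add_right, bf_smul_right, hw, bf_self, Q_sb]; ring
  · intro a
    by_cases ha : a = ps i ε
    · subst ha
      simp only [Pi.add_apply, Pi.smul_apply, sb_apply_ps, smul_eq_mul, and_self, if_true, mul_one]
      rw [add_neg_cancel]
      exact F₀.zero_mem
    · have : (sb i ε : Idx m → F) a = 0 := by
        unfold sb
        rw [Pi.single_apply, if_neg ha]
      simp only [Pi.add_apply, Pi.smul_apply, this, smul_eq_mul, mul_zero, add_zero]
      exact h1 a ha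

end OSetup

end Cfsg.Agent.Lib.Helper48.OSub
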