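import Mathlib
import Cfsg.Agent.Lib.Helper48.OSub.StepA

set_option autoImplicit false
set_option linter.unusedSectionVars false
set_option linter.unusedVariables false
set_option linter.unusedSimpArgs false

/-! Subfield subgroups of the odd-dimensional orthogonal groups: transitivity of the rational
group on rational singular vectors, the coefficient lemma at arbitrary rational singular
vectors, and rationality of point stabilisers. -/

namespace Cfsg.Agent.Lib.Helper48.OSub

open scoped Matrix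
open Matrix Cfsg.Agent.Lib.Helper43 Cfsg.Agent.Lib.Helper48.Subfield

variable {F : Type*} [Field F] [Fintype F] {m : ℕ} {h2 : (2 : F) ≠ 0}
variable {F₀ : Subfield F} {K : Subgroup (OG m h2)}

/-- a rational singular vector not perpendicular to `s` nor to the basis vector `e` -/
theorem exists_good_u (i₀ : Fin m) (hm : 2 ≤ m) (s : Idx m → F) (hs : Rat F₀ s) (hs0 : s ≠ 0)
    (hQs : Cfsg.quadFormOdd m F s = 0) :
    ∃ u : Idx m → F, Rat F₀ u ∧ Cfsg.quadFormOdd m F u = 0 ∧ bf s u ≠ 0 ∧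
      bf (sb i₀ true : Idx m → F) u ≠ 0 := by
  by_cases h1 : s (ps i₀ true) ≠ 0
  · refine ⟨sb i₀ false, rat_sb F₀ _ _, Q_sb _ _, ?_, ?_⟩
    · rw [bf_sb_right]; exact h1
    · rw [bf_sb_sb]; simp
  push Not at h1
  by_cases h3 : ∃ (j : Fin m) (δ : Bool), j ≠ i₀ ∧ s (ps j δ) ≠ 0
  · obtain ⟨j, δ, hj, hsj⟩ := h3
    refine ⟨sb i₀ false + sb j (!δ), Subfield.Rat.add (rat_sb F₀ _ _) (rat_sb F₀ _ _), ?_, ?_, ?_⟩
    · rw [Q_add, Q_sb, Q_sb, bf_sb_sb_ne hj.symm]; ring
    · rw [bf_add_right, bf_sb_right, bf_sb_right, Bool.not_false, Bool.not_not, h1, zero_add]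
      exact hsj
    · rw [bf_add_right, bf_sb_sb, bf_sb_sb_ne hj.symm]
      simp
  push Not at h3
  -- `s` is a multiple of `f`
  have hsd : s pd = 0 := by
    have : Cfsg.quadFormOdd m F s = s pd ^ 2 := by
      unfold Cfsg.quadFormOdd
      have : ∑ i : Fin m, s (Sum.inr (Sum.inl i)) * s (Sum.inr (Sum.inr i)) = 0 := by
        apply Finset.sum_eq_zero
        intro i _
        by_cases hi : i = i₀
        · subst hi
          have : s (Sum.inr (Sum.inl i)) = 0 := h1
          rw [this, zero_mul]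
        · have : s (Sum.inr (Sum.inl i)) = 0 := h3 i true hi
          rw [this, zero_mul]
      rw [this, add_zero]
      rfl
    rw [this] at hQs
    exact pow_eq_zero_iff (two_ne_zero) |>.mp hQs
  have hsf : s (ps i₀ false) ≠ 0 := by
    intro h0
    apply hs0
    funext a
    rcases idx_cases a with rfl | ⟨l, ε', rfl⟩
    · exact hsd
    · by_cases hl : l = i₀
      · subst hl
        cases ε'
        · exact h0
        · exact h1
      · exact h3 l ε' hl
  refine ⟨sb i₀ true - sb i₀ false + dv,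
    Subfield.Rat.add (Subfield.Rat.sub (rat_sb F₀ _ _) (rat_sb F₀ _ _)) (rat_dv F₀), ?_, ?_, ?_⟩
  · rw [Q_add, sub_eq_add_neg, Q_add, Q_neg, Q_sb, Q_sb, Q_dv, bf_neg_right, bf_sb_sb,
      bf_add_left, bf_neg_left, bf_sb_dv, bf_sb_dv]
    simp
  · rw [bf_add_right, bf_sub_right, bf_sb_right, bf_sb_right, bf_dv_right, hsd, Bool.not_true,
      Bool.not_false, h1]
    simpa using hsf
  · rw [bf_add_right, bf_sub_right, bf_sb_sb, bf_sb_sb, bf_sb_dv]
    simp

namespace OSetup

/-- the reference index -/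
def i0 (S : OSetup h2 F₀ K) : Fin m := ⟨0, by have := S.hm; omega⟩

/-- the rational group is transitive on rational singular vectors, up to rational scalars -/
theorem exists_move (S : OSetup h2 F₀ K) (s : Idx m → F) (hs : Rat F₀ s) (hs0 : s ≠ 0)
    (hQs : Cfsg.quadFormOdd m F s = 0) :
    ∃ k ∈ K, RatO h2 F₀ k ∧ ∃ c ∈ F₀, c ≠ 0 ∧ act h2 k s = c • (sb S.i0 true : Idx m → F) := by
  have hm := S.hm
  obtain ⟨u, hur, hQu, hsu, heu⟩ := exists_good_u S.i0 (by omega) s hs hs0 hQs
  set c : F := bf s u / bf (sb S.i0 true : Idx m → F) u with hc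
  have hcF : c ∈ F₀ := F₀.div_mem (rat_bf hs hur) (rat_bf (rat_sb F₀ _ _) hur)
  have hc0 : c ≠ 0 := div_ne_zero hsu heu
  set b : Idx m → F := c • sb S.i0 true with hb
  have hbr : Rat F₀ b := Subfield.Rat.smul hcF (rat_sb F₀ _ _)
  have hQb : Cfsg.quadFormOdd m F s = Cfsg.quadFormOdd m F b := by
    rw [hQs, hb, Q_smul, Q_sb, mul_zero]
  have hβ : bf s u = bf b u := by
    rw [hb, bf_smul_left, hc, div_mul_cancel₀ _ heu]
  obtain ⟨hz, hact⟩ := sg_key h2 s b u hQu hQb hβ hsu
  set z : Idx m → F := (bf s u)⁻¹ • (s - b) with hzdef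
  have hzr : Rat F₀ z := Subfield.Rat.smul (F₀.inv_mem (rat_bf hs hur)) (Subfield.Rat.sub hs hbr)
  exact ⟨sg h2 u z, S.sg_mem hur hzr hQu hz, rat_sg h2 hur hzr hQu hz, c, hcF, hc0, hact⟩

/-- the coefficient lemma at an arbitrary rational singular vector -/
theorem stepA_vec (S : OSetup h2 F₀ K) {s w : Idx m → F} (hs : Rat F₀ s) (hs0 : s ≠ 0)
    (hQs : Cfsg.quadFormOdd m F s = 0) (hw : bf s w = 0) (hK : sg h2 s w ∈ K) :
    ∃ μ : F, Rat F₀ (w - μ • s) := by
  obtain ⟨k, hkK, hkr, c, hcF, hc0, hks⟩ := S.exists_move s hs hs0 hQs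
  set e₀ : Idx m → F := sb S.i0 true with he₀
  have h1 : k * sg h2 s w * k⁻¹ ∈ K := K.mul_mem (K.mul_mem hkK hK) (K.inv_mem hkK)
  have hbe : bf e₀ (act h2 k w) = 0 := by
    have h3 := bf_act h2 k s w
    rw [hks, bf_smul_left, hw] at h3
    rcases mul_eq_zero.mp h3 with h | h
    · exact absurd h hc0
    · exact h
  rw [sg_conj h2 k s w hQs hw, hks, sg_smul_left h2 c e₀ _ (Q_sb _ _) hbe] at h1
  have hbe' : bf e₀ (c • act h2 k w) = 0 := by rw [bf_smul_right, hbe, mul_zero]
  have h3 := S.stepA hbe' h1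
  set μ' : F := (c • act h2 k w) (ps S.i0 true) with hμ'
  have hr : Rat F₀ (c • act h2 k w - μ' • e₀) := by
    intro a
    by_cases ha : a = ps S.i0 true
    · subst ha
      simp only [Pi.sub_apply, Pi.smul_apply, he₀, sb_apply_ps, smul_eq_mul, and_self, if_true,
        mul_one]
      rw [hμ']
      simp only [Pi.smul_apply, smul_eq_mul, sub_self]
      exact F₀.zero_mem
    · have : e₀ a = 0 := by
        rw [he₀]; unfold sb
        rw [Pi.single_apply, if_neg ha]
      simp only [Pi.sub_apply, Pi.smul_apply, this, smul_eq_mul, mul_zero, sub_zero]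
      have := h3 a ha
      simpa using this
  have hke : act h2 k⁻¹ e₀ = c⁻¹ • s := by
    have h4 := congrArg (act h2 k⁻¹) hks
    rw [act_inv_act, act_smul] at h4
    rw [h4, smul_smul, inv_mul_cancel₀ hc0, one_smul]
  refine ⟨c⁻¹ * μ' * c⁻¹, ?_⟩
  have : w - (c⁻¹ * μ' * c⁻¹) • s = c⁻¹ • act h2 k⁻¹ (c • act h2 k w - μ' • e₀) := by
    rw [act_sub, act_smul, act_smul, act_inv_act, hke, smul_sub, smul_smul, smul_smul, smul_smul,
      inv_mul_cancel₀ hc0, one_smul]
  rw [this]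
  exact Subfield.Rat.smul (F₀.inv_mem hcF) ((RatO.inv h2 hkr).act h2 hr)

/-- a Siegel element of `K` centred at a rational singular vector is rational -/
theorem ratO_sg_of_mem (S : OSetup h2 F₀ K) {s w : Idx m → F} (hs : Rat F₀ s) (hs0 : s ≠ 0)
    (hQs : Cfsg.quadFormOdd m F s = 0) (hw : bf s w = 0) (hK : sg h2 s w ∈ K) :
    RatO h2 F₀ (sg h2 s w) := by
  obtain ⟨μ, hμ⟩ := S.stepA_vec hs hs0 hQs hw hK
  have hss : bf s s = 0 := by rw [bf_self, hQs, mul_zero]
  have h1 : bf s (w - μ • s) = 0 := by rw [bf_sub_right, bf_smul_right, hw, hss]; ring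
  have h3 := sg_add_smul h2 s (w - μ • s) μ hQs h1
  rw [sub_add_cancel] at h3
  rw [h3]
  exact rat_sg h2 hs hμ hQs h1

end OSetup

end Cfsg.Agent.Lib.Helper48.OSub
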