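import Mathlib
import Cfsg.Agent.Lib.Helper48.OSub.Trans

set_option autoImplicit false
set_option linter.unusedSectionVars false
set_option linter.unusedVariables false
set_option linter.unusedSimpArgs false

/-! Subfield subgroups of the odd-dimensional orthogonal groups: the stabiliser in `K` of a
rational singular point is rational. -/

namespace Cfsg.Agent.Lib.Helper48.OSub

open scoped Matrix
open Matrix Cfsg.Agent.Lib.Helper43 Cfsg.Agent.Lib.Helper48.Subfield

variable {F : Type*} [Field F] [Fintype F] {m : ℕ} {h2 : (2 : F) ≠ 0}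
variable {F₀ : Subfield F} {K : Subgroup (OG m h2)}

theorem sb_ne_zero (i : Fin m) (ε : Bool) : (sb i ε : Idx m → F) ≠ 0 := by
  intro h
  have := congrFun h (ps i ε)
  rw [sb_apply_ps] at this
  simp at this

theorem sg_fix_centre (u z : Idx m → F) (hu : Cfsg.quadFormOdd m F u = 0) (huz : bf u z = 0) :
    act h2 (sg h2 u z) u = u := by
  have huu : bf u u = 0 := by rw [bf_self, hu, mul_zero]
  rw [sg_act h2 u z hu huz, huz, huu]
  simp

namespace OSetup

/-- an element of `K` stabilising the line of a singular basis vector is rational -/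
theorem ratO_of_fix_basis (S : OSetup h2 F₀ K) {i : Fin m} {ε : Bool} {g : OG m h2} (hg : g ∈ K)
    {lam : F} (h : act h2 g (sb i ε) = lam • (sb i ε : Idx m → F)) : RatO h2 F₀ g := by
  have hm := S.hm
  set s : Idx m → F := sb i ε with hs
  set s' : Idx m → F := sb i (!ε) with hs'
  have hss' : bf s s' = 1 := by rw [hs, hs', bf_sb_sb]; simp
  have hs's : bf s' s = 1 := by rw [bf_comm, hss']
  have hss : bf s s = 0 := by rw [bf_self, hs, Q_sb, mul_zero]
  have hs's' : bf s' s' = 0 := by rw [bf_self, hs', Q_sb, mul_zero]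
  have hQs : Cfsg.quadFormOdd m F s = 0 := Q_sb i ε
  have hQs' : Cfsg.quadFormOdd m F s' = 0 := Q_sb i (!ε)
  have hlam0 : lam ≠ 0 := by
    intro h0
    rw [h0, zero_smul] at h
    have : act h2 g s = act h2 g 0 := by rw [h, act_zero]
    exact sb_ne_zero i ε (act_injective h2 g this)
  have hbs' : ∀ v : Idx m → F, bf v s' = v (ps i ε) := by
    intro v
    rw [hs', bf_sb_right, Bool.not_not]
  set t : Idx m → F := act h2 g s' with ht
  have hst : bf s t = lam⁻¹ := by
    have h1 := bf_act h2 g s s'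
    rw [h, bf_smul_left, hss'] at h1
    field_simp
    linear_combination h1
  set t' : Idx m → F := lam • t with ht'
  have hQt' : Cfsg.quadFormOdd m F t' = 0 := by rw [ht', Q_smul, ht, Q_act, hQs', mul_zero]
  have hst' : bf s t' = 1 := by rw [ht', bf_smul_right, hst, mul_inv_cancel₀ hlam0]
  set c : F := t' (ps i ε) with hc
  set w₁ : Idx m → F := t' - s' - c • s with hw₁
  have hsw₁ : bf s w₁ = 0 := by
    rw [hw₁, bf_sub_right, bf_sub_right, hst', hss', bf_smul_right, hss]; ring
  have hs'w₁ : bf s' w₁ = 0 := by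
    rw [hw₁, bf_sub_right, bf_sub_right, bf_comm s' t', hbs', hs's', bf_smul_right, hs's, ← hc]
    ring
  have ht'eq : t' = s' + (w₁ + c • s) := by rw [hw₁]; abel
  have hcQ : c = -Cfsg.quadFormOdd m F w₁ := by
    have h1 := hQt'
    rw [ht'eq, Q_add, Q_add, Q_smul, hQs, hQs', bf_add_right, bf_smul_right, bf_smul_right,
      hs'w₁, hs's, bf_comm w₁ s, hsw₁] at h1
    linear_combination h1
  have hsnw : bf s (-w₁) = 0 := by rw [bf_neg_right, hsw₁, neg_zero]
  set x : OG m h2 := sg h2 s (-w₁) with hx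
  have hxs' : act h2 x s' = t' := by
    rw [hx, sg_act h2 s _ hQs hsnw, bf_neg_right, hs'w₁, Q_neg, hs's, ht'eq, hcQ]
    module
  have hxs : act h2 x s = s := sg_fix_centre s _ hQs hsnw
  have hxinv_s : act h2 x⁻¹ s = s := by
    have := congrArg (act h2 x⁻¹) hxs
    rw [act_inv_act] at this
    exact this.symm
  have hxinv_t' : act h2 x⁻¹ t' = s' := by
    rw [← hxs', act_inv_act]
  set l : OG m h2 := x⁻¹ * g with hl
  have hls : act h2 l s = lam • s := by
    rw [hl, act_mul, h, act_smul, hxinv_s]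
  have hls' : act h2 l s' = lam⁻¹ • s' := by
    rw [hl, act_mul]
    have : act h2 g s' = lam⁻¹ • t' := by
      rw [ht', smul_smul, inv_mul_cancel₀ hlam0, one_smul]
    rw [this, act_smul, hxinv_t']
  have hxΩ : x ∈ Cfsg.Omega F ⇑(Qf m h2) := sg_mem_Omega h2 (by omega) s _ hQs hsnw
  have hlΩ : l ∈ Cfsg.Omega F ⇑(Qf m h2) :=
    Subgroup.mul_mem _ (Subgroup.inv_mem _ hxΩ) (S.hKΩ hg)
  have hxinv : x⁻¹ = sg h2 s w₁ := by
    rw [hx, sg_inv h2 s _ hQs hsnw, neg_neg]
  -- rationality on the complement of the hyperbolic pair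
  have hH : ∀ z : Idx m → F, Rat F₀ z → bf s z = 0 → bf s' z = 0 →
      Rat F₀ (lam • act h2 l z) := by
    intro z hzr hsz hs'z
    have h1 : g * sg h2 s z * g⁻¹ ∈ K :=
      K.mul_mem (K.mul_mem hg (S.sg_mem (rat_sb F₀ i ε) hzr hQs hsz)) (K.inv_mem hg)
    have hsgz : bf s (act h2 g z) = 0 := by
      have h3 := bf_act h2 g s z
      rw [h, bf_smul_left, hsz] at h3
      rcases mul_eq_zero.mp h3 with h4 | h4
      · exact absurd h4 hlam0
      · exact h4
    rw [sg_conj h2 g s z hQs hsz, h, sg_smul_left h2 lam s _ hQs hsgz] at h1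
    have h3 := S.stepA (by rw [bf_smul_right, hsgz, mul_zero]) h1
    have hlz : act h2 l z = act h2 g z + bf (act h2 g z) w₁ • s := by
      rw [hl, act_mul, hxinv, sg_act h2 s w₁ hQs hsw₁, bf_comm (act h2 g z) s, hsgz]
      simp
    intro a
    by_cases ha : a = ps i ε
    · subst ha
      have h4 : (act h2 l z) (ps i ε) = 0 := by
        rw [← hbs' (act h2 l z)]
        have h5 : s' = lam • act h2 l s' := by
          rw [hls', smul_smul, mul_inv_cancel₀ hlam0, one_smul]
        rw [h5, bf_smul_right, bf_act, bf_comm, hs'z, mul_zero]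
      simp only [Pi.smul_apply, h4, smul_eq_mul, mul_zero]
      exact F₀.zero_mem
    · have hsa : s a = 0 := by
        rw [hs]; unfold sb
        rw [Pi.single_apply, if_neg ha]
      have := h3 a ha
      simp only [Pi.smul_apply, smul_eq_mul] at this
      simp only [Pi.smul_apply, smul_eq_mul, hlz, Pi.add_apply, hsa, mul_zero, add_zero]
      exact this
  have hlam2 : lam * lam ∈ F₀ := by
    have h1 := hH dv (rat_dv F₀) (by rw [hs, bf_sb_dv]) (by rw [hs', bf_sb_dv])
    have h3 := rat_Q h1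
    rw [Q_smul, Q_act, Q_dv, mul_one] at h3
    exact h3
  have hlr : RatO h2 F₀ l := by
    apply ratO_of_scalar h2 hlΩ lam hlam0
    intro a
    rcases idx_cases a with rfl | ⟨k, δ, rfl⟩
    · exact hH dv (rat_dv F₀) (by rw [hs, bf_sb_dv]) (by rw [hs', bf_sb_dv])
    · by_cases hk : k = i
      · subst hk
        by_cases hδ : δ = ε
        · subst hδ
          have : (Pi.single (ps k δ) 1 : Idx m → F) = s := rfl
          rw [this, hls, smul_smul]
          exact Subfield.Rat.smul hlam2 (rat_sb F₀ _ _)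
        · have hδ' : δ = !ε := by
            cases δ <;> cases ε <;> simp at hδ ⊢
          have : (Pi.single (ps k δ) 1 : Idx m → F) = s' := by rw [hδ']; rfl
          rw [this, hls', smul_smul, mul_inv_cancel₀ hlam0, one_smul]
          exact rat_sb F₀ _ _
      · have : (Pi.single (ps k δ) 1 : Idx m → F) = sb k δ := rfl
        rw [this]
        exact hH _ (rat_sb F₀ k δ) (by rw [hs, bf_sb_sb_ne (Ne.symm hk)])
          (by rw [hs', bf_sb_sb_ne (Ne.symm hk)])
  have hlK : l ∈ K := S.hK0 l hlΩ hlr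
  have hxK : x ∈ K := by
    have : x = g * l⁻¹ := by rw [hl]; group
    rw [this]
    exact K.mul_mem hg (K.inv_mem hlK)
  have hxr : RatO h2 F₀ x := S.ratO_of_sg_mem hsnw hxK
  have : g = x * l := by rw [hl]; group
  rw [this]
  exact hxr.mul h2 hlr

/-- an element of `K` mapping a rational singular point to a rational singular point is
rational -/
theorem ratO_of_map_rat (S : OSetup h2 F₀ K) {g : OG m h2} (hg : g ∈ K) {s s'' : Idx m → F}
    (hs : Rat F₀ s) (hs0 : s ≠ 0) (hQs : Cfsg.quadFormOdd m F s = 0) (hs'' : Rat F₀ s'')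
    (hs''0 : s'' ≠ 0) {lam : F} (h : act h2 g s = lam • s'') : RatO h2 F₀ g := by
  have hQs'' : Cfsg.quadFormOdd m F s'' = 0 := by
    have hlam0 : lam ≠ 0 := by
      intro h0
      rw [h0, zero_smul] at h
      have : act h2 g s = act h2 g 0 := by rw [h, act_zero]
      exact hs0 (act_injective h2 g this)
    have h1 := Q_act h2 g s
    rw [h, Q_smul, hQs] at h1
    rcases mul_eq_zero.mp h1 with h3 | h3
    · rcases mul_eq_zero.mp h3 with h4 | h4 <;> exact absurd h4 hlam0
    · exact h3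
  obtain ⟨k₁, hk₁K, hk₁r, c₁, hc₁F, hc₁0, hk₁⟩ := S.exists_move s hs hs0 hQs
  obtain ⟨k₂, hk₂K, hk₂r, c₂, hc₂F, hc₂0, hk₂⟩ := S.exists_move s'' hs'' hs''0 hQs''
  set g' : OG m h2 := k₂ * g * k₁⁻¹ with hg'
  have hg'K : g' ∈ K := K.mul_mem (K.mul_mem hk₂K hg) (K.inv_mem hk₁K)
  have hk₁inv : act h2 k₁⁻¹ (sb S.i0 true) = c₁⁻¹ • s := by
    have h4 := congrArg (act h2 k₁⁻¹) hk₁
    rw [act_inv_act, act_smul] at h4
    rw [h4, smul_smul, inv_mul_cancel₀ hc₁0, one_smul]
  have hfix : act h2 g' (sb S.i0 true) = (c₁⁻¹ * lam * c₂) • (sb S.i0 true : Idx m → F) := by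
    rw [hg', act_mul, act_mul, hk₁inv, act_smul, h, act_smul, act_smul, hk₂, smul_smul, smul_smul]
  have hg'r := S.ratO_of_fix_basis hg'K hfix
  have : g = k₂⁻¹ * g' * k₁ := by rw [hg']; group
  rw [this]
  exact ((RatO.inv h2 hk₂r).mul h2 hg'r).mul h2 hk₁r

end OSetup

end Cfsg.Agent.Lib.Helper48.OSub
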