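import Mathlib
import Cfsg.Agent.Lib.Helper48.OSub.Point

set_option autoImplicit false
set_option linter.unusedSectionVars false
set_option linter.unusedVariables false
set_option linter.unusedSimpArgs false

/-! Subfield subgroups of the odd-dimensional orthogonal groups: the totally singular coordinate
plane `T = ⟨e_i, e_j, e_k⟩`, its perpendicular space and the rational group `C_T`. -/

namespace Cfsg.Agent.Lib.Helper48.OSub

open scoped Matrix
open Matrix Cfsg.Agent.Lib.Helper43 Cfsg.Agent.Lib.Helper48.Subfield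

variable {F : Type*} [Field F] [Fintype F] {m : ℕ}

/-- membership in `T^⊥` -/
def PerpT (i j k : Fin m) (v : Idx m → F) : Prop :=
  v (ps i false) = 0 ∧ v (ps j false) = 0 ∧ v (ps k false) = 0

/-- membership in `T` -/
def InT (i j k : Fin m) (v : Idx m → F) : Prop :=
  ∀ a : Idx m, a ≠ ps i true → a ≠ ps j true → a ≠ ps k true → v a = 0

variable {i j k : Fin m}

theorem InT.zero_pd {v : Idx m → F} (h : InT i j k v) : v OSub.pd = 0 :=
  h OSub.pd (ps_ne_pd _ _).symm (ps_ne_pd _ _).symm (ps_ne_pd _ _).symm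

theorem InT.zero_false {v : Idx m → F} (h : InT i j k v) (a : Fin m) :
    v (ps a Bool.false) = 0 := by
  apply h
  all_goals
    intro h'
    have := (ps_injective h').2
    simp at this

theorem InT.zero_true_ne {v : Idx m → F} (h : InT i j k v) (a : Fin m) (hi : a ≠ i) (hj : a ≠ j)
    (hk : a ≠ k) : v (ps a Bool.true) = 0 := by
  apply h
  · intro h'; exact hi (ps_injective h').1
  · intro h'; exact hj (ps_injective h').1
  · intro h'; exact hk (ps_injective h').1

theorem InT.perpT {v : Idx m → F} (h : InT i j k v) : PerpT i j k v :=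
  ⟨h.zero_false i, h.zero_false j, h.zero_false k⟩

theorem bf_perp_inT {y v : Idx m → F} (hy : PerpT i j k y) (hv : InT i j k v) : bf y v = 0 := by
  unfold bf
  rw [hv.zero_pd, mul_zero, zero_add]
  apply Finset.sum_eq_zero
  intro a _
  rw [hv.zero_false a, mul_zero, zero_add]
  by_cases hi : a = i
  · rw [hi, hy.1, zero_mul]
  by_cases hj : a = j
  · rw [hj, hy.2.1, zero_mul]
  by_cases hk : a = k
  · rw [hk, hy.2.2, zero_mul]
  rw [hv.zero_true_ne a hi hj hk, mul_zero]

theorem bf_inT_inT {u v : Idx m → F} (hu : InT i j k u) (hv : InT i j k v) : bf u v = 0 :=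
  bf_perp_inT hu.perpT hv

theorem Q_inT {v : Idx m → F} (hv : InT i j k v) : Cfsg.quadFormOdd m F v = 0 := by
  unfold Cfsg.quadFormOdd
  have h1 : v (Sum.inl ()) = 0 := hv.zero_pd
  rw [h1]
  simp only [ne_eq, OfNat.ofNat_ne_zero, not_false_eq_true, zero_pow, zero_add]
  apply Finset.sum_eq_zero
  intro a _
  have : v (Sum.inr (Sum.inr a)) = 0 := hv.zero_false a
  rw [this, mul_zero]

theorem InT.add {u v : Idx m → F} (hu : InT i j k u) (hv : InT i j k v) : InT i j k (u + v) := by
  intro a h1 h2 h3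
  rw [Pi.add_apply, hu a h1 h2 h3, hv a h1 h2 h3, add_zero]

theorem InT.sub {u v : Idx m → F} (hu : InT i j k u) (hv : InT i j k v) : InT i j k (u - v) := by
  intro a h1 h2 h3
  rw [Pi.sub_apply, hu a h1 h2 h3, hv a h1 h2 h3, sub_zero]

theorem InT.smul {v : Idx m → F} (c : F) (hv : InT i j k v) : InT i j k (c • v) := by
  intro a h1 h2 h3
  rw [Pi.smul_apply, hv a h1 h2 h3, smul_zero]

theorem inT_sb_i : InT i j k (sb i true : Idx m → F) := by
  intro a h1 _ _
  unfold sb
  rw [Pi.single_apply, if_neg h1]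

theorem inT_sb_j : InT i j k (sb j true : Idx m → F) := by
  intro a _ h1 _
  unfold sb
  rw [Pi.single_apply, if_neg h1]

theorem inT_sb_k : InT i j k (sb k true : Idx m → F) := by
  intro a _ _ h1
  unfold sb
  rw [Pi.single_apply, if_neg h1]

theorem perpT_dv : PerpT i j k (dv : Idx m → F) :=
  ⟨dv_apply_ps _ _, dv_apply_ps _ _, dv_apply_ps _ _⟩

theorem perpT_sb_true (a : Fin m) : PerpT i j k (sb a true : Idx m → F) := by
  refine ⟨?_, ?_, ?_⟩ <;> · rw [sb_apply_ps]; simp

theorem perpT_sb_false (a : Fin m) (hi : a ≠ i) (hj : a ≠ j) (hk : a ≠ k) :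
    PerpT i j k (sb a false : Idx m → F) := by
  refine ⟨?_, ?_, ?_⟩
  · rw [sb_apply_ps, if_neg]; exact fun h => hi h.1.symm
  · rw [sb_apply_ps, if_neg]; exact fun h => hj h.1.symm
  · rw [sb_apply_ps, if_neg]; exact fun h => hk h.1.symm

theorem PerpT.add {u v : Idx m → F} (hu : PerpT i j k u) (hv : PerpT i j k v) :
    PerpT i j k (u + v) := by
  refine ⟨?_, ?_, ?_⟩
  · rw [Pi.add_apply, hu.1, hv.1, add_zero]
  · rw [Pi.add_apply, hu.2.1, hv.2.1, add_zero]
  · rw [Pi.add_apply, hu.2.2, hv.2.2, add_zero]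

theorem PerpT.smul {v : Idx m → F} (c : F) (hv : PerpT i j k v) : PerpT i j k (c • v) := by
  refine ⟨?_, ?_, ?_⟩
  · rw [Pi.smul_apply, hv.1, smul_zero]
  · rw [Pi.smul_apply, hv.2.1, smul_zero]
  · rw [Pi.smul_apply, hv.2.2, smul_zero]

/-- a vector perpendicular to the basis vectors of `T^⊥` lies in `T` -/
theorem inT_of_perp (h2 : (2 : F) ≠ 0) {v : Idx m → F} (hd : bf v (dv : Idx m → F) = 0)
    (ht : ∀ a : Fin m, bf v (sb a true : Idx m → F) = 0)
    (hf : ∀ a : Fin m, a ≠ i → a ≠ j → a ≠ k → bf v (sb a false : Idx m → F) = 0) :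
    InT i j k v := by
  intro a h1 h3 h4
  rcases idx_cases a with rfl | ⟨l, ε, rfl⟩
  · rw [bf_dv_right] at hd
    rcases mul_eq_zero.mp hd with h | h
    · exact absurd h h2
    · exact h
  · cases ε
    · have := ht l
      rwa [bf_sb_right, Bool.not_true] at this
    · have := hf l (fun h => h1 (by rw [h])) (fun h => h3 (by rw [h])) (fun h => h4 (by rw [h]))
      rwa [bf_sb_right, Bool.not_false] at this

end Cfsg.Agent.Lib.Helper48.OSub
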