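import Mathlib
import Cfsg.Agent.Lib.Helper48.OSub.FrobPrep
import Cfsg.Agent.Lib.Helper48.Subfield.Frob

set_option autoImplicit false
set_option linter.unusedSectionVars false
set_option linter.unusedVariables false
set_option linter.unusedSimpArgs false

/-! Subfield subgroups of the odd-dimensional orthogonal groups: the Frobenius argument. -/

namespace Cfsg.Agent.Lib.Helper48.OSub

open scoped Matrix
open Matrix Cfsg.Agent.Lib.Helper43 Cfsg.Agent.Lib.Helper48.Subfield

variable {F : Type*} [Field F] [Fintype F] {m : ℕ} {h2 : (2 : F) ≠ 0}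
variable {F₀ : Subfield F} {K : Subgroup (OG m h2)} {i j k : Fin m}

/-- fixing `T^⊥` pointwise -/
def FixPerp (i j k : Fin m) (x : OG m h2) : Prop := ∀ v, PerpT i j k v → act h2 x v = v

theorem FixPerp.one : FixPerp i j k (1 : OG m h2) := fun v _ => act_one h2 v

theorem FixPerp.mul {x y : OG m h2} (hx : FixPerp i j k x) (hy : FixPerp i j k y) :
    FixPerp i j k (x * y) := fun v hv => by rw [act_mul, hy v hv, hx v hv]

theorem FixPerp.inv {x : OG m h2} (hx : FixPerp i j k x) : FixPerp i j k x⁻¹ := fun v hv => by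
  have := congrArg (act h2 x⁻¹) (hx v hv)
  rw [act_inv_act] at this
  exact this.symm

/-- `(x - 1) V ⊆ T` -/
theorem inT_of_fixPerp {x : OG m h2} (hx : FixPerp i j k x) (v : Idx m → F) :
    InT i j k (act h2 x v - v) := by
  have key : ∀ y, PerpT i j k y → bf (act h2 x v - v) y = 0 := by
    intro y hy
    rw [bf_sub_left]
    have := bf_act h2 x v y
    rw [hx y hy] at this
    rw [this, sub_self]
  apply inT_of_perp h2
  · exact key _ perpT_dv
  · intro a; exact key _ (perpT_sb_true a)
  · intro a hi hj hk; exact key _ (perpT_sb_false a hi hj hk)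

theorem fixPerp_pow {x : OG m h2} (hx : FixPerp i j k x) (n : ℕ) (v : Idx m → F) :
    act h2 (x ^ n) v = v + (n : F) • (act h2 x v - v) := by
  induction n generalizing v with
  | zero => simp [act_one]
  | succ n ih =>
    have h1 : act h2 x (act h2 x v - v) = act h2 x v - v :=
      hx _ (inT_of_fixPerp hx v).perpT
    have h3 : act h2 x (act h2 x v) = act h2 x v + (act h2 x v - v) := by
      have : act h2 x v = v + (act h2 x v - v) := by abel
      conv_lhs => rw [this]
      rw [act_add, h1]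
    rw [pow_succ, act_mul, ih, h3]
    push_cast
    have : act h2 x v + (act h2 x v - v) - act h2 x v = act h2 x v - v := by abel
    rw [this]
    module

/-- the rational elements of `K` fixing `T^⊥` pointwise -/
def CT (K : Subgroup (OG m h2)) (F₀ : Subfield F) (i j k : Fin m) : Subgroup (OG m h2) where
  carrier := {x | x ∈ K ∧ RatO h2 F₀ x ∧ FixPerp i j k x}
  one_mem' := ⟨K.one_mem, RatO.one h2, FixPerp.one⟩
  mul_mem' := fun ha hb => ⟨K.mul_mem ha.1 hb.1, ha.2.1.mul h2 hb.2.1, ha.2.2.mul hb.2.2⟩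
  inv_mem' := fun ha => ⟨K.inv_mem ha.1, ha.2.1.inv h2, ha.2.2.inv⟩

theorem mem_CT {x : OG m h2} :
    x ∈ CT K F₀ i j k ↔ x ∈ K ∧ RatO h2 F₀ x ∧ FixPerp i j k x := Iff.rfl

/-- the elements of `K` fixing pointwise the vectors of `T^⊥` fixed by `τ` -/
def YT (K : Subgroup (OG m h2)) (i j k : Fin m) (τ : OG m h2) : Subgroup (OG m h2) where
  carrier := {y | y ∈ K ∧ ∀ v, PerpT i j k v → act h2 τ v = v → act h2 y v = v}
  one_mem' := ⟨K.one_mem, fun v _ _ => act_one h2 v⟩
  mul_mem' := fun ha hb => ⟨K.mul_mem ha.1 hb.1, fun v hv hτ => by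
    rw [act_mul, hb.2 v hv hτ, ha.2 v hv hτ]⟩
  inv_mem' := fun {a} ha => ⟨K.inv_mem ha.1, fun v hv hτ => by
    have := congrArg (act h2 a⁻¹) (ha.2 v hv hτ)
    rw [act_inv_act] at this
    exact this.symm⟩

theorem mem_YT {τ y : OG m h2} :
    y ∈ YT K i j k τ ↔ y ∈ K ∧ ∀ v, PerpT i j k v → act h2 τ v = v → act h2 y v = v := Iff.rfl

theorem CT_le_YT (τ : OG m h2) : CT K F₀ i j k ≤ YT K i j k τ :=
  fun x hx => ⟨hx.1, fun v hv _ => hx.2.2 v hv⟩

/-- an element fixing every basis vector is trivial -/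
theorem eq_one_of_fix_basis {x : OG m h2}
    (h : ∀ a : Idx m, act h2 x (Pi.single a 1) = Pi.single a 1) : x = 1 := by
  apply ext_act h2
  intro v
  rw [act_one]
  have hsum : v = ∑ a : Idx m, v a • (Pi.single a 1 : Idx m → F) := by
    conv_lhs => rw [← Finset.univ_sum_single v]
    refine Finset.sum_congr rfl fun a _ => ?_
    rw [← Pi.single_smul, smul_eq_mul, mul_one]
  conv_lhs => rw [hsum]
  unfold act
  rw [map_sum]
  conv_rhs => rw [hsum]
  refine Finset.sum_congr rfl fun a _ => ?_
  rw [map_smul]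
  congr 1
  exact h a

/-- `x f_a - f_a` -/
noncomputable def tvec (x : OG m h2) (a : Fin m) : Idx m → F :=
  act h2 x (sb a false) - sb a false

theorem inT_tvec {x : OG m h2} (hx : FixPerp i j k x) (a : Fin m) : InT i j k (tvec x a) :=
  inT_of_fixPerp hx _

theorem rat_tvec {x : OG m h2} (hx : RatO h2 F₀ x) (a : Fin m) : Rat F₀ (tvec x a) :=
  Subfield.Rat.sub (hx.act h2 (rat_sb F₀ a false)) (rat_sb F₀ a false)

theorem tvec_skew {x : OG m h2} (hx : FixPerp i j k x) (a b : Fin m) :
    tvec x a (ps b true) + tvec x b (ps a true) = 0 := by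
  have h1 := bf_act h2 x (sb a false) (sb b false)
  have ea : act h2 x (sb a false) = sb a false + tvec x a := by unfold tvec; abel
  have eb : act h2 x (sb b false) = sb b false + tvec x b := by unfold tvec; abel
  have e1 : bf (sb a false : Idx m → F) (tvec x b) = tvec x b (ps a true) := by
    rw [bf_sb_left]; rfl
  have e2 : bf (tvec x a) (sb b false : Idx m → F) = tvec x a (ps b true) := by
    rw [bf_sb_right]; rfl
  rw [ea, eb, bf_add_left, bf_add_right, bf_add_right, bf_inT_inT (inT_tvec hx a) (inT_tvec hx b),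
    e1, e2] at h1
  linear_combination h1

theorem tvec_diag {x : OG m h2} (hx : FixPerp i j k x) (a : Fin m) : tvec x a (ps a true) = 0 := by
  have h1 := tvec_skew hx a a
  have h3 : (2 : F) * tvec x a (ps a true) = 0 := by linear_combination h1
  rcases mul_eq_zero.mp h3 with h | h
  · exact absurd h h2
  · exact h

theorem exists_tvec_ne {x : OG m h2} (hx : FixPerp i j k x) (hx1 : x ≠ 1) :
    ∃ a : Fin m, tvec x a ≠ 0 := by
  by_contra hcon
  push Not at hcon
  apply hx1
  apply eq_one_of_fix_basis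
  intro p
  rcases idx_cases p with rfl | ⟨l, ε, rfl⟩
  · exact hx _ perpT_dv
  · cases ε
    · have := hcon l
      unfold tvec at this
      exact sub_eq_zero.mp this
    · exact hx _ (perpT_sb_true l)

theorem exists_coord_ne {v : Idx m → F} (hv : InT i j k v) (hv0 : v ≠ 0) :
    ∃ b : Fin m, v (ps b true) ≠ 0 := by
  by_contra hcon
  push Not at hcon
  apply hv0
  funext p
  rcases idx_cases p with rfl | ⟨l, ε, rfl⟩
  · exact hv.zero_pd
  · cases ε
    · exact hv.zero_false l
    · exact hcon l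

/-- the dual basis -/
noncomputable def dual (p : Idx m) : Idx m → F :=
  match p with
  | Sum.inl _ => (2 : F)⁻¹ • dv
  | Sum.inr (Sum.inl a) => sb a false
  | Sum.inr (Sum.inr a) => sb a true

theorem bf_dual (h2 : (2 : F) ≠ 0) (p : Idx m) (v : Idx m → F) : bf (dual p) v = v p := by
  rcases p with u | (a | a)
  · show bf ((2 : F)⁻¹ • dv) v = v (Sum.inl u)
    rw [bf_smul_left, bf_dv_left, ← mul_assoc, inv_mul_cancel₀ h2, one_mul]
    rfl
  · show bf (sb a false) v = _
    rw [bf_sb_left]; rfl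
  · show bf (sb a true) v = _
    rw [bf_sb_left]; rfl

theorem rat_dual (F₀ : Subfield F) (p : Idx m) : Rat F₀ (dual p : Idx m → F) := by
  rcases p with u | (a | a)
  · exact Subfield.Rat.smul (F₀.inv_mem (two_mem F₀)) (rat_dv F₀)
  · exact rat_sb F₀ a false
  · exact rat_sb F₀ a true

namespace OSetup

/-- the trivial-intersection property -/
theorem ti (S : OSetup h2 F₀ K) {τ : OG m h2}
    (hgen : ∀ r : Idx m → F, Rat F₀ r →
      (∀ v, PerpT i j k v → act h2 τ v = v → bf r v = 0) → InT i j k r)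
    {g : OG m h2} (hgY : g ∈ YT K i j k τ) (hgC : g ∉ CT K F₀ i j k) {x : OG m h2}
    (hx : x ∈ CT K F₀ i j k) (hconj : g * x * g⁻¹ ∈ CT K F₀ i j k) : x = 1 := by
  by_contra hx1
  apply hgC
  -- Step 1: `g` is rational
  have hgr : RatO h2 F₀ g := by
    obtain ⟨a₀, hs0⟩ := exists_tvec_ne hx.2.2 hx1
    set s : Idx m → F := tvec x a₀ with hs
    have hsT : InT i j k s := inT_tvec hx.2.2 a₀
    have hsr : Rat F₀ s := rat_tvec hx.2.1 a₀
    have hQs : Cfsg.quadFormOdd m F s = 0 := Q_inT hsT
    set x' : OG m h2 := g * x * g⁻¹ with hx'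
    have hx'1 : x' ≠ 1 := by
      intro h
      apply hx1
      have : x = g⁻¹ * x' * g := by rw [hx']; group
      rw [this, h]; group
    obtain ⟨a, htA0⟩ := exists_tvec_ne hconj.2.2 hx'1
    obtain ⟨b, hσ⟩ := exists_coord_ne (inT_tvec hconj.2.2 a) htA0
    set tA : Idx m → F := tvec x' a with htA
    set tB : Idx m → F := tvec x' b with htB
    have htBb : tB (ps b true) = 0 := tvec_diag hconj.2.2 b
    have htBa : tB (ps a true) = -tA (ps b true) := by
      have := tvec_skew hconj.2.2 a b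
      linear_combination this
    have htB0 : tB ≠ 0 := by
      intro h
      rw [h, Pi.zero_apply] at htBa
      exact hσ (neg_eq_zero.mp htBa.symm)
    set u : Idx m → F := act h2 g s with hu
    have huT : InT i j k u := by
      have hgx : g * x = x' * g := by rw [hx']; group
      have : u = act h2 x' (act h2 g (sb a₀ false)) - act h2 g (sb a₀ false) := by
        rw [hu, hs]
        unfold tvec
        rw [act_sub, ← act_mul, hgx, act_mul]
      rw [this]
      exact inT_of_fixPerp hconj.2.2 _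
    set w : Idx m → F := act h2 g dv with hw
    have hQw : Cfsg.quadFormOdd m F w = 1 := by rw [hw, Q_act, Q_dv]
    have huw : bf u w = 0 := by
      rw [hu, hw, bf_act, bf_comm]
      exact bf_perp_inT perpT_dv hsT
    have hwt : ∀ c : Fin m, bf w (tvec x' c) = 0 := by
      intro c
      set v₀ : Idx m → F := act h2 g⁻¹ (sb c false) with hv₀
      have : tvec x' c = act h2 g (act h2 x v₀ - v₀) := by
        unfold tvec
        rw [hx', act_mul, act_mul, act_sub, hv₀, act_act_inv]
      rw [this, hw, bf_act]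
      exact bf_perp_inT perpT_dv (inT_of_fixPerp hx.2.2 _)
    obtain ⟨y, hyr, hyP, hwy⟩ : ∃ y : Idx m → F, Rat F₀ y ∧ PerpT i j k y ∧ bf w y ≠ 0 := by
      by_contra hcon
      push Not at hcon
      have hwT : InT i j k w := by
        apply inT_of_perp h2
        · exact hcon _ (rat_dv F₀) perpT_dv
        · intro c; exact hcon _ (rat_sb F₀ c true) (perpT_sb_true c)
        · intro c hi hj hk; exact hcon _ (rat_sb F₀ c false) (perpT_sb_false c hi hj hk)
      have := Q_inT hwT
      rw [hQw] at this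
      exact one_ne_zero this
    set c : F := bf y w with hc
    have hc0 : c ≠ 0 := by rw [hc, bf_comm]; exact hwy
    have hQu : Cfsg.quadFormOdd m F u = 0 := Q_inT huT
    have hsd : bf s (dv : Idx m → F) = 0 := by
      rw [bf_comm]; exact bf_perp_inT perpT_dv hsT
    have huwK : sg h2 u w ∈ K := by
      have h1 : g * sg h2 s dv * g⁻¹ ∈ K :=
        K.mul_mem (K.mul_mem hgY.1 (S.sg_mem hsr (rat_dv F₀) hQs hsd)) (K.inv_mem hgY.1)
      rwa [sg_conj h2 g s dv hQs hsd] at h1
    have key : ∀ t : Idx m → F, Rat F₀ t → InT i j k t → t ≠ 0 → bf w t = 0 →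
        ∃ μ : F, Rat F₀ (c • u - μ • t) := by
      intro t htr htT ht0 hwt'
      have hQt : Cfsg.quadFormOdd m F t = 0 := Q_inT htT
      have hty : bf t y = 0 := by rw [bf_comm]; exact bf_perp_inT hyP htT
      have e1 : Cfsg.quadFormOdd m F (c • u) = 0 := by rw [Q_smul, hQu, mul_zero]
      have e2 : bf t (c • u) = 0 := by rw [bf_smul_right, bf_inT_inT htT huT, mul_zero]
      have e3 : bf t (c⁻¹ • w) = 0 := by rw [bf_smul_right, bf_comm, hwt', mul_zero]
      have e4 : bf (c • u) (c⁻¹ • w) = 0 := by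
        rw [bf_smul_left, bf_smul_right, huw, mul_zero, mul_zero]
      have e5 : bf y (c • u) = 0 := by rw [bf_smul_right, bf_perp_inT hyP huT, mul_zero]
      have e6 : bf y (c⁻¹ • w) = 1 := by rw [bf_smul_right, ← hc, inv_mul_cancel₀ hc0]
      have hcomm := sg_comm h2 t (c • u) y (c⁻¹ • w) hQt e1 e2 hty e3 e4 e5 e6
      have e7 : bf u (c⁻¹ • w) = 0 := by rw [bf_smul_right, huw, mul_zero]
      have e8 : sg h2 (c • u) (c⁻¹ • w) = sg h2 u w := by
        rw [sg_smul_left h2 c u _ hQu e7, smul_smul, mul_inv_cancel₀ hc0, one_smul]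
      rw [e8] at hcomm
      have htyK : sg h2 t y ∈ K := S.sg_mem htr hyr hQt hty
      have hK : sg h2 t (c • u) ∈ K := by
        rw [← hcomm]
        exact K.mul_mem (K.mul_mem (K.mul_mem huwK htyK) (K.inv_mem huwK)) (K.inv_mem htyK)
      exact S.stepA_vec htr ht0 hQt e2 hK
    obtain ⟨μA, hμA⟩ := key tA (rat_tvec hconj.2.1 a) (inT_tvec hconj.2.2 a) htA0 (hwt a)
    obtain ⟨μB, hμB⟩ := key tB (rat_tvec hconj.2.1 b) (inT_tvec hconj.2.2 b) htB0 (hwt b)
    have h1 := hμA (ps b true)
    have h3 := hμB (ps b true)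
    simp only [Pi.sub_apply, Pi.smul_apply, smul_eq_mul, htBb, mul_zero, sub_zero] at h1 h3
    have hσF : tA (ps b true) ∈ F₀ := rat_tvec hconj.2.1 a (ps b true)
    have hμAF : μA ∈ F₀ := by
      have h4 : μA * tA (ps b true) ∈ F₀ := by
        have := F₀.sub_mem h3 h1
        have e : c * u (ps b true) - (c * u (ps b true) - μA * tA (ps b true))
            = μA * tA (ps b true) := by ring
        rwa [e] at this
      have h5 : μA = μA * tA (ps b true) * (tA (ps b true))⁻¹ := by field_simp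
      rw [h5]
      exact F₀.mul_mem h4 (F₀.inv_mem hσF)
    have hcu : Rat F₀ (c • u) := by
      have : c • u = (c • u - μA • tA) + μA • tA := by abel
      rw [this]
      exact Subfield.Rat.add hμA (Subfield.Rat.smul hμAF (rat_tvec hconj.2.1 a))
    have hcu0 : c • u ≠ 0 := by
      intro h
      rcases smul_eq_zero.mp h with h' | h'
      · exact hc0 h'
      · have : act h2 g s = act h2 g 0 := by rw [act_zero]; exact h'
        exact hs0 (act_injective h2 g this)
    have hact : act h2 g s = c⁻¹ • (c • u) := by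
      rw [smul_smul, inv_mul_cancel₀ hc0, one_smul]
    exact S.ratO_of_map_rat hgY.1 hsr hs0 hQs hcu hcu0 hact
  -- Step 2: `g` fixes `T^⊥` pointwise
  refine ⟨hgY.1, hgr, ?_⟩
  intro v hv
  funext p
  set r : Idx m → F := act h2 g⁻¹ (dual p) - dual p with hr
  have hrr : Rat F₀ r := Subfield.Rat.sub ((hgr.inv h2).act h2 (rat_dual F₀ p)) (rat_dual F₀ p)
  have hrv : ∀ v' : Idx m → F, bf r v' = (act h2 g v') p - v' p := by
    intro v'
    rw [hr, bf_sub_left, bf_dual h2, bf_act_left, inv_inv, bf_dual h2]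
  have hrT : InT i j k r := by
    apply hgen r hrr
    intro v' hv' hτv'
    rw [hrv, hgY.2 v' hv' hτv', sub_self]
  have h1 : bf r v = 0 := by rw [bf_comm]; exact bf_perp_inT hv hrT
  rw [hrv] at h1
  exact sub_eq_zero.mp h1

end OSetup

/-- the standard elements of `C_T` -/
noncomputable def sgT (h2 : (2 : F) ≠ 0) (i j k : Fin m) (a b : F) : OG m h2 :=
  sg h2 (sb i true) (a • (sb j true : Idx m → F) + b • (sb k true : Idx m → F))

theorem sgT_orth (hij : i ≠ j) (hik : i ≠ k) (a b : F) :
    bf (sb i true : Idx m → F) (a • (sb j true : Idx m → F) + b • (sb k true : Idx m → F)) = 0 := by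
  rw [bf_add_right, bf_smul_right, bf_smul_right, bf_sb_sb_ne hij, bf_sb_sb_ne hik]
  ring

theorem sgT_act (hij : i ≠ j) (hik : i ≠ k) (a b : F) (v : Idx m → F) :
    act h2 (sgT h2 i j k a b) v = v + (a * v (ps j false) + b * v (ps k false)) • sb i true
      - v (ps i false) • (a • (sb j true : Idx m → F) + b • (sb k true : Idx m → F)) := by
  unfold sgT
  have hz : InT i j k (a • (sb j true : Idx m → F) + b • (sb k true : Idx m → F)) :=
    (inT_sb_j.smul a).add (inT_sb_k.smul b)
  rw [sg_act h2 _ _ (Q_sb i true) (sgT_orth hij hik a b), Q_inT hz, zero_mul, sub_zero,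
    bf_add_right, bf_smul_right, bf_smul_right, bf_sb_right, bf_sb_right, bf_sb_right,
    Bool.not_true]

theorem sgT_fixPerp (hij : i ≠ j) (hik : i ≠ k) (a b : F) :
    FixPerp i j k (sgT h2 i j k a b) := by
  intro v hv
  rw [sgT_act hij hik, hv.1, hv.2.1, hv.2.2]
  simp

namespace OSetup

theorem sgT_mem_CT (S : OSetup h2 F₀ K) (hij : i ≠ j) (hik : i ≠ k) {a b : F} (ha : a ∈ F₀)
    (hb : b ∈ F₀) : sgT h2 i j k a b ∈ CT K F₀ i j k := by
  have hzr : Rat F₀ (a • (sb j true : Idx m → F) + b • (sb k true : Idx m → F)) :=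
    Subfield.Rat.add (Subfield.Rat.smul ha (rat_sb F₀ _ _)) (Subfield.Rat.smul hb (rat_sb F₀ _ _))
  exact ⟨S.sg_mem (rat_sb F₀ i true) hzr (Q_sb i true) (sgT_orth hij hik a b),
    rat_sg h2 (rat_sb F₀ i true) hzr (Q_sb i true) (sgT_orth hij hik a b),
    sgT_fixPerp hij hik a b⟩

/-- **the Frobenius lemma**: an element of `K` fixing pointwise a subspace of `T^⊥` in general
position is rational -/
theorem lemmaF (S : OSetup h2 F₀ K) (hij : i ≠ j) (hik : i ≠ k) (hjk : j ≠ k) {τ : OG m h2}
    (hτK : τ ∈ K)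
    (hgen : ∀ r : Idx m → F, Rat F₀ r →
      (∀ v, PerpT i j k v → act h2 τ v = v → bf r v = 0) → InT i j k r) :
    RatO h2 F₀ τ := by
  by_contra hτr
  have hτC : τ ∉ CT K F₀ i j k := fun h => hτr h.2.1
  have hτY : τ ∈ YT K i j k τ := ⟨hτK, fun v _ h => h⟩
  have hCY := CT_le_YT (K := K) (F₀ := F₀) (i := i) (j := j) (k := k) τ
  have hjf : ∀ a b : F, act h2 (sgT h2 i j k a b) (sb j false) = sb j false + a • sb i true := by
    intro a b
    rw [sgT_act hij hik, sb_apply_ps, sb_apply_ps, sb_apply_ps]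
    have e1 : ¬ (k = j ∧ false = false) := fun h => hjk h.1.symm
    have e2 : ¬ (i = j ∧ false = false) := fun h => hij h.1
    rw [if_neg e1, if_neg e2]
    simp
  have hkf : ∀ a b : F, act h2 (sgT h2 i j k a b) (sb k false) = sb k false + b • sb i true := by
    intro a b
    rw [sgT_act hij hik, sb_apply_ps, sb_apply_ps, sb_apply_ps]
    have e1 : ¬ (j = k ∧ false = false) := fun h => hjk h.1
    have e2 : ¬ (i = k ∧ false = false) := fun h => hik h.1
    rw [if_neg e1, if_neg e2]
    simp
  have hcoord : ∀ (a : F) (l : Fin m), l ≠ i →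
      ((sb l false : Idx m → F) + a • (sb i true : Idx m → F)) (ps i true) = a := by
    intro a l hl
    rw [Pi.add_apply, Pi.smul_apply, sb_apply_ps, sb_apply_ps, if_neg, if_pos ⟨rfl, rfl⟩]
    · simp
    · intro h; simp at h
  have hCne : CT K F₀ i j k ≠ ⊥ := by
    intro hbot
    have h1 : sgT h2 i j k 1 0 ∈ CT K F₀ i j k := S.sgT_mem_CT hij hik F₀.one_mem F₀.zero_mem
    rw [hbot, Subgroup.mem_bot] at h1
    have h3 := hjf 1 0
    rw [h1, act_one] at h3
    have h4 := congrFun h3 (ps i true)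
    rw [hcoord 1 j hij.symm, sb_apply_ps, if_neg] at h4
    · exact zero_ne_one h4
    · intro h; simp at h
  have hFrob := isFrobeniusComplement_subgroupOf (YT K i j k τ) (CT K F₀ i j k) hCY hCne τ hτY hτC
    (fun g hgY hgC x hx hconj => S.ti hgen hgY hgC hx hconj)
  obtain ⟨p, hchar⟩ := CharP.exists F
  have := hchar
  have : Fact p.Prime := ⟨CharP.char_is_prime F p⟩
  have hp0 : (p : F) = 0 := CharP.cast_eq_zero F p
  have hexp : ∀ x ∈ (CT K F₀ i j k).subgroupOf (YT K i j k τ), x ^ p = 1 := by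
    intro x hx
    rw [Subgroup.mem_subgroupOf] at hx
    apply Subtype.ext
    rw [Subgroup.coe_pow, Subgroup.coe_one]
    apply ext_act h2
    intro v
    rw [fixPerp_pow hx.2.2, hp0, zero_smul, add_zero, act_one]
  have hcard : p < Nat.card ((CT K F₀ i j k).subgroupOf (YT K i j k τ)) := by
    rw [Nat.card_congr (Subgroup.subgroupOfEquivOfLe hCY).toEquiv]
    let fn : Fin p × Fin p → CT K F₀ i j k := fun ab =>
      ⟨sgT h2 i j k ((ab.1 : ℕ) : F) ((ab.2 : ℕ) : F),
        S.sgT_mem_CT hij hik (natCast_mem F₀ _) (natCast_mem F₀ _)⟩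
    have hinj : Function.Injective fn := by
      rintro ⟨a, b⟩ ⟨a', b'⟩ hab
      have h1 := congrArg Subtype.val hab
      simp only [fn] at h1
      have h3 := congrArg (fun g : OG m h2 => (act h2 g (sb j false)) (ps i true)) h1
      have h4 := congrArg (fun g : OG m h2 => (act h2 g (sb k false)) (ps i true)) h1
      simp only [hjf, hkf, hcoord _ j hij.symm, hcoord _ k hik.symm] at h3 h4
      have h5 := (CharP.natCast_eq_natCast F p).mp h3
      have h6 := (CharP.natCast_eq_natCast F p).mp h4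
      have h7 := Nat.ModEq.eq_of_lt_of_lt h5 a.2 a'.2
      have h8 := Nat.ModEq.eq_of_lt_of_lt h6 b.2 b'.2
      exact Prod.ext (Fin.ext h7) (Fin.ext h8)
    have h1 := Nat.card_le_card_of_injective fn hinj
    rw [Nat.card_prod, Nat.card_eq_fintype_card, Fintype.card_fin] at h1
    have hp2 : 2 ≤ p := (Fact.out : p.Prime).two_le
    nlinarith
  exact no_elementary_frobenius_complement _ hFrob p hexp hcard

end OSetup

end Cfsg.Agent.Lib.Helper48.OSub
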