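import Mathlib
import Cfsg.Agent.Lib.Helper48.OSub.Frob

set_option autoImplicit false
set_option linter.unusedSectionVars false
set_option linter.unusedVariables false
set_option linter.unusedSimpArgs false

/-! Subfield subgroups of the odd-dimensional orthogonal groups: every element of a proper
overgroup is rational. -/

namespace Cfsg.Agent.Lib.Helper48.OSub

open scoped Matrix
open Matrix Cfsg.Agent.Lib.Helper43 Cfsg.Agent.Lib.Helper48.Subfield

variable {F : Type*} [Field F] [Fintype F] {m : ℕ} {h2 : (2 : F) ≠ 0}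
variable {F₀ : Subfield F} {K : Subgroup (OG m h2)}

/-- three distinct indices avoiding two given ones -/
theorem exists_three_avoiding (hm : 5 ≤ m) (a b : Fin m) :
    ∃ i j k : Fin m, i ≠ j ∧ i ≠ k ∧ j ≠ k ∧ i ≠ a ∧ i ≠ b ∧ j ≠ a ∧ j ≠ b ∧ k ≠ a ∧ k ≠ b := by
  classical
  set s : Finset (Fin m) := (Finset.univ.erase a).erase b with hs
  have hcard : 2 < s.card := by
    have h1 : (Finset.univ.erase a : Finset (Fin m)).card = m - 1 := by
      rw [Finset.card_erase_of_mem (Finset.mem_univ a), Finset.card_univ, Fintype.card_fin]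
    have h3 : s.card ≥ (Finset.univ.erase a : Finset (Fin m)).card - 1 := Finset.pred_card_le_card_erase
    omega
  obtain ⟨i, j, k, hi, hj, hk, hij, hik, hjk⟩ := Finset.two_lt_card_iff.mp hcard
  have hmem : ∀ x ∈ s, x ≠ a ∧ x ≠ b := by
    intro x hx
    rw [hs, Finset.mem_erase, Finset.mem_erase] at hx
    exact ⟨hx.2.1, hx.1⟩
  exact ⟨i, j, k, hij, hik, hjk, (hmem i hi).1, (hmem i hi).2, (hmem j hj).1, (hmem j hj).2,
    (hmem k hk).1, (hmem k hk).2⟩

/-- the index underlying a position -/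
def idxOf (hm : 0 < m) : Idx m → Fin m
  | Sum.inl _ => ⟨0, hm⟩
  | Sum.inr (Sum.inl a) => a
  | Sum.inr (Sum.inr a) => a

theorem ne_ps_of_idxOf_ne (hm : 0 < m) (p : Idx m) (i : Fin m) (ε : Bool) (h : i ≠ idxOf hm p) :
    p ≠ ps i ε := by
  rintro rfl
  apply h
  cases ε <;> rfl

/-- embedding of the maximal totally singular coordinate subspace -/
def embE (x : Fin m → F) : Idx m → F
  | Sum.inl _ => 0
  | Sum.inr (Sum.inl a) => x a
  | Sum.inr (Sum.inr _) => 0

theorem embE_true (x : Fin m → F) (a : Fin m) : embE x (ps a true) = x a := rfl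
theorem embE_false (x : Fin m → F) (a : Fin m) : embE x (ps a false) = 0 := rfl
theorem embE_pd (x : Fin m → F) : embE x (pd : Idx m) = 0 := rfl

theorem bf_embE (x : Fin m → F) (v : Idx m → F) :
    bf (embE x) v = ∑ a : Fin m, x a * v (ps a false) := by
  unfold bf
  rw [embE_pd, mul_zero, zero_mul, zero_add]
  refine Finset.sum_congr rfl fun a _ => ?_
  rw [embE_true, embE_false, zero_mul, add_zero]

theorem Q_embE (x : Fin m → F) : Cfsg.quadFormOdd m F (embE x) = 0 := by
  unfold Cfsg.quadFormOdd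
  have h1 : embE x (Sum.inl ()) = 0 := rfl
  rw [h1]
  simp only [ne_eq, OfNat.ofNat_ne_zero, not_false_eq_true, zero_pow, zero_add]
  apply Finset.sum_eq_zero
  intro a _
  have : embE x (Sum.inr (Sum.inr a)) = 0 := rfl
  rw [this, mul_zero]

theorem bf_embE_inT {i j k : Fin m} (x : Fin m → F) {t : Idx m → F} (ht : InT i j k t) :
    bf (embE x) t = 0 := by
  rw [bf_embE]
  apply Finset.sum_eq_zero
  intro a _
  rw [ht.zero_false a, mul_zero]

/-- double perpendicular: a vector perpendicular to `(T + ⟨u, z⟩)^⊥` lies in `T + ⟨u, z⟩` -/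
theorem mem_of_perp_perp (h2 : (2 : F) ≠ 0) {i j k : Fin m} (u z r : Idx m → F)
    (h : ∀ v, PerpT i j k v → bf u v = 0 → bf z v = 0 → bf r v = 0) :
    ∃ (t : Idx m → F) (α β : F), InT i j k t ∧ r = t + α • u + β • z := by
  set B : LinearMap.BilinForm F (Idx m → F) := QuadraticMap.polarBilin (Qf m h2) with hB
  have hBbf : ∀ x y, B x y = bf x y := fun x y => pb_eq h2 x y
  have hnd : B.Nondegenerate := Qf_nd h2
  have hrefl : B.IsRefl := by
    intro x y hxy
    rw [hBbf] at hxy ⊢
    rw [bf_comm]; exact hxy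
  set W : Submodule F (Idx m → F) :=
    Submodule.span F ({sb i true, sb j true, sb k true, u, z} : Set (Idx m → F)) with hW
  have hr : r ∈ B.orthogonal (B.orthogonal W) := by
    rw [LinearMap.BilinForm.mem_orthogonal_iff]
    intro v hv
    rw [LinearMap.BilinForm.mem_orthogonal_iff] at hv
    rw [hBbf, bf_comm]
    have hmem : ∀ x ∈ ({sb i true, sb j true, sb k true, u, z} : Set (Idx m → F)), bf x v = 0 := by
      intro x hx
      rw [← hBbf]
      exact hv x (Submodule.subset_span hx)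
    apply h v
    · refine ⟨?_, ?_, ?_⟩
      · have := hmem (sb i true) (by simp)
        rwa [bf_sb_left, Bool.not_true] at this
      · have := hmem (sb j true) (by simp)
        rwa [bf_sb_left, Bool.not_true] at this
      · have := hmem (sb k true) (by simp)
        rwa [bf_sb_left, Bool.not_true] at this
    · exact hmem u (by simp)
    · exact hmem z (by simp)
  rw [LinearMap.BilinForm.orthogonal_orthogonal hnd hrefl W, hW] at hr
  obtain ⟨a₁, r₁, hr₁, rfl⟩ := Submodule.mem_span_insert.mp hr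
  obtain ⟨a₂, r₂, hr₂, rfl⟩ := Submodule.mem_span_insert.mp hr₁
  obtain ⟨a₃, r₃, hr₃, rfl⟩ := Submodule.mem_span_insert.mp hr₂
  obtain ⟨α, r₄, hr₄, rfl⟩ := Submodule.mem_span_insert.mp hr₃
  obtain ⟨β, rfl⟩ := Submodule.mem_span_singleton.mp hr₄
  refine ⟨a₁ • sb i true + a₂ • sb j true + a₃ • sb k true, α, β,
    ((inT_sb_i.smul a₁).add (inT_sb_j.smul a₂)).add (inT_sb_k.smul a₃), ?_⟩
  abel

namespace OSetup

/-- an element of `K` fixing a rational singular vector is rational -/
theorem ratO_of_fix (S : OSetup h2 F₀ K) {τ : OG m h2} (hτ : τ ∈ K) {s : Idx m → F}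
    (hs : Rat F₀ s) (hs0 : s ≠ 0) (hQs : Cfsg.quadFormOdd m F s = 0) (hfix : act h2 τ s = s) :
    RatO h2 F₀ τ :=
  S.ratO_of_map_rat hτ hs hs0 hQs hs hs0 (lam := 1) (by rw [one_smul]; exact hfix)

/-- the failure of general position for an irrational long root element -/
theorem exists_bad (S : OSetup h2 F₀ K) {u z : Idx m → F} (hQu : Cfsg.quadFormOdd m F u = 0)
    (hQz : Cfsg.quadFormOdd m F z = 0) (huz : bf u z = 0) (hτK : sg h2 u z ∈ K)
    (hτr : ¬ RatO h2 F₀ (sg h2 u z)) {i j k : Fin m} (hij : i ≠ j) (hik : i ≠ k) (hjk : j ≠ k) :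
    ∃ (r t : Idx m → F) (α β : F), Rat F₀ r ∧ InT i j k t ∧ ¬ InT i j k r ∧
      r = t + α • u + β • z := by
  by_contra hcon
  apply hτr
  apply S.lemmaF hij hik hjk hτK
  intro r hr hperp
  by_contra hrT
  apply hcon
  have hfix : ∀ v : Idx m → F, bf u v = 0 → bf z v = 0 → act h2 (sg h2 u z) v = v := by
    intro v hu hz
    rw [sg_act h2 u z hQu huz, bf_comm v z, hz, bf_comm v u, hu]
    simp
  obtain ⟨t, α, β, ht, hrt⟩ := mem_of_perp_perp h2 u z r
    (fun v hv hu hz => hperp v hv (hfix v hu hz))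
  exact ⟨r, t, α, β, hr, ht, hrT, hrt⟩

end OSetup

theorem rat_embE {x : Fin m → F} (hx : ∀ a, x a ∈ F₀) : Rat F₀ (embE x) := by
  intro p
  rcases p with u | (a | a)
  · exact F₀.zero_mem
  · exact hx a
  · exact F₀.zero_mem

/-- a non-zero rational vector of the coordinate totally singular subspace, perpendicular to
two given rational vectors -/
theorem exists_rat_embE (hm : 3 ≤ m) (r r' : Idx m → F) (hr : Rat F₀ r) (hr' : Rat F₀ r') :
    ∃ x : Fin m → F, (∀ a, x a ∈ F₀) ∧ x ≠ 0 ∧ bf (embE x) r = 0 ∧ bf (embE x) r' = 0 := by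
  classical
  let A : Matrix (Fin 2) (Fin m) F₀ := fun q a =>
    if q = 0 then ⟨r (ps a false), hr _⟩ else ⟨r' (ps a false), hr' _⟩
  have hker : LinearMap.ker (Matrix.mulVecLin A) ≠ ⊥ := by
    apply LinearMap.ker_ne_bot_of_finrank_lt
    rw [Module.finrank_fintype_fun_eq_card, Module.finrank_fintype_fun_eq_card, Fintype.card_fin,
      Fintype.card_fin]
    omega
  obtain ⟨x, hxker, hx0⟩ := Submodule.exists_mem_ne_zero_of_ne_bot hker
  rw [LinearMap.mem_ker, Matrix.mulVecLin_apply] at hxker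
  refine ⟨fun a => (x a : F), fun a => (x a).2, ?_, ?_, ?_⟩
  · intro h
    apply hx0
    funext a
    have := congrFun h a
    exact Subtype.ext this
  · rw [bf_embE]
    have h1 := congrFun hxker 0
    have h3 := congrArg (fun y : F₀ => (y : F)) h1
    simp only [Matrix.mulVec, dotProduct, A, Pi.zero_apply] at h3
    push_cast at h3
    have e : ∑ a, (x a : F) * r (ps a false) = ∑ a, r (ps a false) * (x a : F) :=
      Finset.sum_congr rfl (fun a _ => mul_comm _ _)
    rw [e]
    simpa using h3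
  · rw [bf_embE]
    have h1 := congrFun hxker 1
    have h3 := congrArg (fun y : F₀ => (y : F)) h1
    simp only [Matrix.mulVec, dotProduct, A, Pi.zero_apply] at h3
    push_cast at h3
    have e : ∑ a, (x a : F) * r' (ps a false) = ∑ a, r' (ps a false) * (x a : F) :=
      Finset.sum_congr rfl (fun a _ => mul_comm _ _)
    rw [e]
    simpa using h3

namespace OSetup

/-- **no irrational long root elements** -/
theorem ratO_root (S : OSetup h2 F₀ K) {u z : Idx m → F} (hQu : Cfsg.quadFormOdd m F u = 0)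
    (hQz : Cfsg.quadFormOdd m F z = 0) (huz : bf u z = 0)
    (hind : ∀ α β : F, α • u + β • z = 0 → α = 0 ∧ β = 0) (hτK : sg h2 u z ∈ K) :
    RatO h2 F₀ (sg h2 u z) := by
  have hm := S.hm
  by_contra hτr
  have huu : bf u u = 0 := by rw [bf_self, hQu, mul_zero]
  have hzz : bf z z = 0 := by rw [bf_self, hQz, mul_zero]
  have hzu : bf z u = 0 := by rw [bf_comm, huz]
  have hF1 : ∀ s : Idx m → F, Rat F₀ s → s ≠ 0 → Cfsg.quadFormOdd m F s = 0 → bf u s = 0 →
      bf z s = 0 → False := by
    intro s hs hs0 hQs hus hzs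
    apply hτr
    apply S.ratO_of_fix hτK hs hs0 hQs
    rw [sg_act h2 u z hQu huz, bf_comm s z, hzs, bf_comm s u, hus]
    simp
  have hne : ∀ {i j k : Fin m} {r t : Idx m → F} {α β : F}, InT i j k t → ¬ InT i j k r →
      r = t + α • u + β • z → ¬ (α = 0 ∧ β = 0) := by
    intro i j k r t α β ht hr hrt h0
    apply hr
    rw [hrt, h0.1, h0.2, zero_smul, zero_smul, add_zero, add_zero]
    exact ht
  by_cases hcase : ∃ (i j k i' j' k' : Fin m) (r t r' t' : Idx m → F) (α β α' β' : F),
      Rat F₀ r ∧ InT i j k t ∧ r = t + α • u + β • z ∧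
      Rat F₀ r' ∧ InT i' j' k' t' ∧ r' = t' + α' • u + β' • z ∧ α * β' - α' * β ≠ 0
  · obtain ⟨i, j, k, i', j', k', r, t, r', t', α, β, α', β', hr, ht, hrt, hr', ht', hrt', hdet⟩ :=
      hcase
    obtain ⟨x, hxr, hx0, hxr0, hxr'0⟩ := exists_rat_embE (by omega) r r' hr hr'
    have e1 : α * bf (embE x) u + β * bf (embE x) z = 0 := by
      have := hxr0
      rw [hrt, bf_add_right, bf_add_right, bf_smul_right, bf_smul_right, bf_embE_inT x ht] at this
      linear_combination this
    have e2 : α' * bf (embE x) u + β' * bf (embE x) z = 0 := by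
      have := hxr'0
      rw [hrt', bf_add_right, bf_add_right, bf_smul_right, bf_smul_right, bf_embE_inT x ht'] at this
      linear_combination this
    have e3 : bf (embE x) u = 0 := by
      have : (α * β' - α' * β) * bf (embE x) u = 0 := by linear_combination β' * e1 - β * e2
      rcases mul_eq_zero.mp this with h | h
      · exact absurd h hdet
      · exact h
    have e4 : bf (embE x) z = 0 := by
      have : (α * β' - α' * β) * bf (embE x) z = 0 := by linear_combination α * e2 - α' * e1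
      rcases mul_eq_zero.mp this with h | h
      · exact absurd h hdet
      · exact h
    have hs0 : embE x ≠ 0 := by
      intro h
      apply hx0
      funext a
      have := congrFun h (ps a true)
      rwa [embE_true] at this
    exact hF1 (embE x) (rat_embE hxr) hs0 (Q_embE x) (by rw [bf_comm]; exact e3)
      (by rw [bf_comm]; exact e4)
  · push Not at hcase
    set i₀ : Fin m := ⟨0, by omega⟩ with hi₀
    set j₀ : Fin m := ⟨1, by omega⟩ with hj₀
    set k₀ : Fin m := ⟨2, by omega⟩ with hk₀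
    have hij₀ : i₀ ≠ j₀ := by intro h; simpa [hi₀, hj₀] using congrArg Fin.val h
    have hik₀ : i₀ ≠ k₀ := by intro h; simpa [hi₀, hk₀] using congrArg Fin.val h
    have hjk₀ : j₀ ≠ k₀ := by intro h; simpa [hj₀, hk₀] using congrArg Fin.val h
    obtain ⟨r₀, t₀, α₀, β₀, hr₀, ht₀, hr₀T, hrt₀⟩ :=
      S.exists_bad hQu hQz huz hτK hτr hij₀ hik₀ hjk₀
    have hab₀ := hne ht₀ hr₀T hrt₀
    set l₀ : Idx m → F := α₀ • u + β₀ • z with hl₀
    have hl₀0 : l₀ ≠ 0 := fun h => hab₀ (hind α₀ β₀ h)
    have hratio : ∀ p q : Idx m, l₀ p ≠ 0 → l₀ q * (l₀ p)⁻¹ ∈ F₀ := by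
      intro p q hp
      obtain ⟨i, j, k, hij, hik, hjk, hia, hib, hja, hjb, hka, hkb⟩ :=
        exists_three_avoiding (by omega) (idxOf (by omega) p) (idxOf (by omega) q)
      obtain ⟨r, t, α, β, hr, ht, hrT, hrt⟩ := S.exists_bad hQu hQz huz hτK hτr hij hik hjk
      have hab := hne ht hrT hrt
      have hdet := hcase i₀ j₀ k₀ i j k r₀ t₀ r t α₀ β₀ α β hr₀ ht₀ hrt₀ hr ht hrt
      obtain ⟨c, hc0, hcα, hcβ⟩ : ∃ c : F, c ≠ 0 ∧ α = c * α₀ ∧ β = c * β₀ := by
        by_cases hα₀ : α₀ = 0
        · have hβ₀ : β₀ ≠ 0 := fun h => hab₀ ⟨hα₀, h⟩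
          have hα : α = 0 := by
            have : α * β₀ = 0 := by rw [hα₀] at hdet; linear_combination -hdet
            rcases mul_eq_zero.mp this with h | h
            · exact h
            · exact absurd h hβ₀
          refine ⟨β / β₀, ?_, ?_, ?_⟩
          · intro h
            have : β = 0 := by
              rcases div_eq_zero_iff.mp h with h' | h'
              · exact h'
              · exact absurd h' hβ₀
            exact hab ⟨hα, this⟩
          · rw [hα, hα₀, mul_zero]
          · field_simp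
        · refine ⟨α / α₀, ?_, ?_, ?_⟩
          · intro h
            have hα : α = 0 := by
              rcases div_eq_zero_iff.mp h with h' | h'
              · exact h'
              · exact absurd h' hα₀
            have : β = 0 := by
              have : α₀ * β = 0 := by rw [hα] at hdet; linear_combination hdet
              rcases mul_eq_zero.mp this with h' | h'
              · exact absurd h' hα₀
              · exact h'
            exact hab ⟨hα, this⟩
          · field_simp
          · field_simp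
            linear_combination hdet
      have hrl : r = t + c • l₀ := by
        rw [hrt, hcα, hcβ, hl₀, smul_add, smul_smul, smul_smul, add_assoc]
      have hcoord : ∀ p' : Idx m, i ≠ idxOf (by omega) p' → j ≠ idxOf (by omega) p' →
          k ≠ idxOf (by omega) p' → c * l₀ p' ∈ F₀ := by
        intro p' h1 h3 h4
        have h5 := hr p'
        rw [hrl, Pi.add_apply, Pi.smul_apply, smul_eq_mul,
          ht p' (ne_ps_of_idxOf_ne _ p' i true h1) (ne_ps_of_idxOf_ne _ p' j true h3)
            (ne_ps_of_idxOf_ne _ p' k true h4), zero_add] at h5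
        exact h5
      have h1 := hcoord p hia hja hka
      have h3 := hcoord q hib hjb hkb
      have : l₀ q * (l₀ p)⁻¹ = (c * l₀ q) * (c * l₀ p)⁻¹ := by
        field_simp
      rw [this]
      exact F₀.mul_mem h3 (F₀.inv_mem h1)
    obtain ⟨p₀, hp₀⟩ : ∃ p₀, l₀ p₀ ≠ 0 := by
      by_contra hcon
      push Not at hcon
      exact hl₀0 (funext hcon)
    set s₀ : Idx m → F := (l₀ p₀)⁻¹ • l₀ with hs₀
    have hs₀r : Rat F₀ s₀ := by
      intro q
      rw [hs₀, Pi.smul_apply, smul_eq_mul, mul_comm]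
      exact hratio p₀ q hp₀
    have hs₀0 : s₀ ≠ 0 := by
      intro h
      rcases smul_eq_zero.mp h with h' | h'
      · exact hp₀ (inv_eq_zero.mp h')
      · exact hl₀0 h'
    have hQl₀ : Cfsg.quadFormOdd m F l₀ = 0 := by
      rw [hl₀, Q_add, Q_smul, Q_smul, hQu, hQz, bf_smul_left, bf_smul_right, huz]
      ring
    have hQs₀ : Cfsg.quadFormOdd m F s₀ = 0 := by rw [hs₀, Q_smul, hQl₀, mul_zero]
    have hus₀ : bf u s₀ = 0 := by
      rw [hs₀, bf_smul_right, hl₀, bf_add_right, bf_smul_right, bf_smul_right, huu, huz]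
      ring
    have hzs₀ : bf z s₀ = 0 := by
      rw [hs₀, bf_smul_right, hl₀, bf_add_right, bf_smul_right, bf_smul_right, hzu, hzz]
      ring
    exact hF1 s₀ hs₀r hs₀0 hQs₀ hus₀ hzs₀

end OSetup

theorem indep_sb {a b : Fin m} {ε δ : Bool} (h : ps a ε ≠ ps b δ) (α β : F)
    (h0 : α • (sb a ε : Idx m → F) + β • (sb b δ : Idx m → F) = 0) : α = 0 ∧ β = 0 := by
  have h1 := congrFun h0 (ps a ε)
  have h3 := congrFun h0 (ps b δ)
  simp only [Pi.add_apply, Pi.smul_apply, sb_apply_ps, smul_eq_mul, Pi.zero_apply] at h1 h3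
  have e1 : ¬ (a = b ∧ ε = δ) := fun hh => h (by rw [hh.1, hh.2])
  have e2 : ¬ (b = a ∧ δ = ε) := fun hh => h (by rw [hh.1, hh.2])
  rw [if_neg e1] at h1
  rw [if_neg e2] at h3
  simp only [and_self, if_true, mul_one, mul_zero, add_zero, zero_add] at h1 h3
  exact ⟨h1, h3⟩

theorem indep_act (g : OG m h2) {a b : Idx m → F}
    (h : ∀ α β : F, α • a + β • b = 0 → α = 0 ∧ β = 0) (α β : F)
    (h0 : α • act h2 g a + β • act h2 g b = 0) : α = 0 ∧ β = 0 := by
  apply h
  have : act h2 g (α • a + β • b) = act h2 g 0 := by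
    rw [act_add, act_smul, act_smul, h0, act_zero]
  exact act_injective h2 g this

namespace OSetup

/-- **every element of `K` is rational** -/
theorem main (S : OSetup h2 F₀ K) {g : OG m h2} (hg : g ∈ K) : RatO h2 F₀ g := by
  have hm := S.hm
  set i₀ : Fin m := ⟨0, by omega⟩ with hi₀
  set i₁ : Fin m := ⟨1, by omega⟩ with hi₁
  have h01 : i₀ ≠ i₁ := by intro h; simpa [hi₀, hi₁] using congrArg Fin.val h
  set u : Idx m → F := act h2 g (sb i₀ true) with hu
  set u' : Idx m → F := act h2 g (sb i₁ true) with hu'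
  set u'' : Idx m → F := act h2 g (sb i₁ false) with hu''
  have hQu : Cfsg.quadFormOdd m F u = 0 := by rw [hu, Q_act, Q_sb]
  have hQu' : Cfsg.quadFormOdd m F u' = 0 := by rw [hu', Q_act, Q_sb]
  have hQu'' : Cfsg.quadFormOdd m F u'' = 0 := by rw [hu'', Q_act, Q_sb]
  have huu : bf u u = 0 := by rw [bf_self, hQu, mul_zero]
  have huu' : bf u u' = 0 := by rw [hu, hu', bf_act, bf_sb_sb_ne h01]
  have huu'' : bf u u'' = 0 := by rw [hu, hu'', bf_act, bf_sb_sb_ne h01]
  have hu''u' : bf u'' u' = 1 := by rw [hu'', hu', bf_act, bf_sb_sb]; simp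
  have hτ'K : sg h2 u u' ∈ K := by
    have h1 : g * sg h2 (sb i₀ true) (sb i₁ true) * g⁻¹ ∈ K :=
      K.mul_mem (K.mul_mem hg (S.sg_mem (rat_sb F₀ _ _) (rat_sb F₀ _ _) (Q_sb _ _)
        (bf_sb_sb_ne h01 _ _))) (K.inv_mem hg)
    rwa [sg_conj h2 g _ _ (Q_sb _ _) (bf_sb_sb_ne h01 _ _)] at h1
  have hτ''K : sg h2 u u'' ∈ K := by
    have h1 : g * sg h2 (sb i₀ true) (sb i₁ false) * g⁻¹ ∈ K :=
      K.mul_mem (K.mul_mem hg (S.sg_mem (rat_sb F₀ _ _) (rat_sb F₀ _ _) (Q_sb _ _)
        (bf_sb_sb_ne h01 _ _))) (K.inv_mem hg)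
    rwa [sg_conj h2 g _ _ (Q_sb _ _) (bf_sb_sb_ne h01 _ _)] at h1
  have hτ'r : RatO h2 F₀ (sg h2 u u') :=
    S.ratO_root hQu hQu' huu' (indep_act g (indep_sb (by
      intro h; exact h01 (ps_injective h).1))) hτ'K
  have hτ''r : RatO h2 F₀ (sg h2 u u'') :=
    S.ratO_root hQu hQu'' huu'' (indep_act g (indep_sb (by
      intro h; exact h01 (ps_injective h).1))) hτ''K
  have hu0 : u ≠ 0 := by
    intro h
    have : act h2 g (sb i₀ true) = act h2 g 0 := by rw [act_zero]; exact h
    exact sb_ne_zero i₀ true (act_injective h2 g this)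
  obtain ⟨p, hp⟩ : ∃ p, u p ≠ 0 := by
    by_contra hcon
    push Not at hcon
    exact hu0 (funext hcon)
  set v : Idx m → F := dual p with hv
  have hvr : Rat F₀ v := rat_dual F₀ p
  have hvu : bf v u = u p := bf_dual h2 p u
  set n'' : Idx m → F := act h2 (sg h2 u u'') v - v with hn''
  have hn''r : Rat F₀ n'' := Subfield.Rat.sub (hτ''r.act h2 hvr) hvr
  have hn''eq : n'' = bf v u'' • u - bf v u • u'' := by
    rw [hn'', sg_act h2 u u'' hQu huu'', hQu'', zero_mul, sub_zero]
    abel
  set n' : Idx m → F := act h2 (sg h2 u u') n'' - n'' with hn'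
  have hn'r : Rat F₀ n' := Subfield.Rat.sub (hτ'r.act h2 hn''r) hn''r
  have hn'eq : n' = -(u p) • u := by
    rw [hn', sg_act h2 u u' hQu huu', hQu', zero_mul, sub_zero]
    have e1 : bf n'' u' = -(u p) := by
      rw [hn''eq, bf_sub_left, bf_smul_left, bf_smul_left, huu', hu''u', hvu]; ring
    have e2 : bf n'' u = 0 := by
      rw [hn''eq, bf_sub_left, bf_smul_left, bf_smul_left, huu, bf_comm u'' u, huu'']; ring
    rw [e1, e2, zero_smul]
    abel
  have hsr : Rat F₀ ((u p) • u) := by
    have := Subfield.Rat.neg hn'r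
    rwa [hn'eq, neg_smul, neg_neg] at this
  have hs0 : (u p) • u ≠ 0 := by
    intro h
    rcases smul_eq_zero.mp h with h' | h'
    · exact hp h'
    · exact hu0 h'
  have hact : act h2 g (sb i₀ true) = (u p)⁻¹ • ((u p) • u) := by
    rw [smul_smul, inv_mul_cancel₀ hp, one_smul]
  exact S.ratO_of_map_rat hg (rat_sb F₀ i₀ true) (sb_ne_zero i₀ true) (Q_sb i₀ true) hsr hs0 hact

end OSetup

end Cfsg.Agent.Lib.Helper48.OSub
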