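import Mathlib
import Cfsg.Agent.Lib.Helper48.OSub.Main

set_option autoImplicit false
set_option linter.unusedSectionVars false
set_option linter.unusedVariables false
set_option linter.unusedSimpArgs false

/-! Subfield subgroups of the odd-dimensional orthogonal groups: maximality in standard form. -/

namespace Cfsg.Agent.Lib.Helper48.OSub

open scoped Matrix
open Matrix Cfsg.Agent.Lib.Helper43 Cfsg.Agent.Lib.Helper48.Subfield

variable {F : Type*} [Field F] [Fintype F] {m : ℕ}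

theorem mem_omegaGL_iff (h2 : (2 : F) ≠ 0) (x : GL (Idx m) F) :
    x ∈ Cfsg.Geo.omegaGL (Cfsg.quadFormOdd m F) ↔
      ∃ g : OG m h2, g ∈ Cfsg.Omega F ⇑(Qf m h2) ∧ (g : GL (Idx m) F) = x := by
  unfold Cfsg.Geo.omegaGL
  rw [Subgroup.mem_map]
  rfl

/-- there are no intermediate fields -/
theorem subalgebra_dichotomy (F₀ : Subfield F) (r : ℕ) (hr : r.Prime)
    (hF : Fintype.card F = Nat.card F₀ ^ r) (S : Subalgebra F₀ F) : S = ⊥ ∨ S = ⊤ := by
  have : Fintype F₀ := Fintype.ofFinite F₀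
  have hfin : Module.finrank F₀ F = r := by
    have h1 : Fintype.card F = Fintype.card F₀ ^ Module.finrank F₀ F :=
      Module.card_eq_pow_finrank
    rw [Nat.card_eq_fintype_card] at hF
    rw [hF] at h1
    have h2 : 1 < Fintype.card F₀ := Fintype.one_lt_card
    exact (Nat.pow_right_injective h2 h1).symm
  have hsimple : IsSimpleOrder (Subalgebra F₀ F) :=
    Subalgebra.isSimpleOrder_of_finrank_prime F₀ F (hfin ▸ hr)
  exact hsimple.eq_bot_or_eq_top S

theorem exists_not_mem (F₀ : Subfield F) (r : ℕ) (hr : r.Prime)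
    (hF : Fintype.card F = Nat.card F₀ ^ r) : ∃ a : F, a ∉ F₀ := by
  by_contra hcon
  push Not at hcon
  have h1 : Nat.card F₀ = Fintype.card F := by
    rw [← Nat.card_eq_fintype_card]
    exact Nat.card_congr ⟨fun x => x.1, fun x => ⟨x, hcon x⟩, fun _ => rfl, fun _ => rfl⟩
  rw [h1] at hF
  have hq : 2 ≤ Fintype.card F := Fintype.one_lt_card
  have hr2 := hr.two_le
  have h2 : Fintype.card F ^ 1 < Fintype.card F ^ r := Nat.pow_lt_pow_right hq (by omega)
  rw [pow_one] at h2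
  omega

/-- the subfield subgroup in standard form is maximal in `Ω` -/
theorem maximal_std (h2 : (2 : F) ≠ 0) (hm : 6 ≤ m) (F₀ : Subfield F) (r : ℕ) (hr : r.Prime)
    (hF : Fintype.card F = Nat.card F₀ ^ r) :
    Cfsg.Geo.IsMaximalIn (Cfsg.Geo.omegaGL (Cfsg.quadFormOdd m F))
      (ratUpTo (ι := Idx m) F₀ ⊓ Cfsg.Geo.omegaGL (Cfsg.quadFormOdd m F)) := by
  -- elements of `Ω` rational up to a scalar are rational
  have hrat : ∀ g : OG m h2, g ∈ Cfsg.Omega F ⇑(Qf m h2) →
      (g : GL (Idx m) F) ∈ ratUpTo (ι := Idx m) F₀ → RatO h2 F₀ g := by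
    intro g hgΩ hgr
    obtain ⟨c, hc0, hc⟩ := hgr
    apply ratO_of_scalar h2 hgΩ c hc0
    intro a i
    rw [Pi.smul_apply, act_eq_mulVec, Matrix.mulVec_single_one, Matrix.col_apply]
    have := hc i a
    rwa [Matrix.smul_apply] at this
  constructor
  · refine lt_of_le_of_ne inf_le_right ?_
    intro heq
    obtain ⟨a, ha⟩ := exists_not_mem F₀ r hr hF
    set i₀ : Fin m := ⟨0, by omega⟩ with hi₀
    set i₁ : Fin m := ⟨1, by omega⟩ with hi₁
    have h01 : i₀ ≠ i₁ := by intro h; simpa [hi₀, hi₁] using congrArg Fin.val h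
    have horth : bf (sb i₀ true : Idx m → F) (a • (sb i₁ false : Idx m → F)) = 0 := by
      rw [bf_smul_right, bf_sb_sb_ne h01, mul_zero]
    set g : OG m h2 := sg h2 (sb i₀ true) (a • (sb i₁ false : Idx m → F)) with hg
    have hgΩ : g ∈ Cfsg.Omega F ⇑(Qf m h2) :=
      sg_mem_Omega h2 (by omega) _ _ (Q_sb _ _) horth
    have hmem : (g : GL (Idx m) F) ∈ Cfsg.Geo.omegaGL (Cfsg.quadFormOdd m F) :=
      (mem_omegaGL_iff h2 _).mpr ⟨g, hgΩ, rfl⟩
    rw [← heq] at hmem
    have hgr := hrat g hgΩ hmem.1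
    have h1 := hgr.act h2 (rat_sb F₀ i₁ true) (ps i₀ true)
    rw [hg, sg_act h2 _ _ (Q_sb _ _) horth] at h1
    simp only [Pi.add_apply, Pi.sub_apply, Pi.smul_apply, sb_apply_ps, smul_eq_mul, bf_smul_right,
      bf_sb_sb, Q_smul, Q_sb] at h1
    have e1 : ¬ (i₀ = i₁ ∧ true = true) := fun h => h01 h.1
    have e2 : ¬ (i₁ = i₀ ∧ (!true) = true) := fun h => h01 h.1.symm
    simp [e1, e2, h01, h01.symm] at h1
    exact ha h1
  · intro M hHM hMS
    by_cases hMtop : M = Cfsg.Geo.omegaGL (Cfsg.quadFormOdd m F)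
    · right; exact hMtop
    left
    set K : Subgroup (OG m h2) := M.comap (Cfsg.isometryGroup F ⇑(Qf m h2)).subtype with hK
    have hmemK : ∀ g : OG m h2, g ∈ K ↔ (g : GL (Idx m) F) ∈ M := fun g => Iff.rfl
    have hKΩ : K ≤ Cfsg.Omega F ⇑(Qf m h2) := by
      intro g hg
      obtain ⟨g', hg'Ω, hg'⟩ := (mem_omegaGL_iff h2 _).mp (hMS ((hmemK g).mp hg))
      have : g' = g := Subtype.ext hg'
      rw [← this]; exact hg'Ω
    have S : OSetup h2 F₀ K := by
      refine ⟨hm, hKΩ, ?_, ?_, subalgebra_dichotomy F₀ r hr hF⟩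
      · intro g hgΩ hgr
        rw [hmemK]
        apply hHM
        refine ⟨⟨1, one_ne_zero, ?_⟩, (mem_omegaGL_iff h2 _).mpr ⟨g, hgΩ, rfl⟩⟩
        rw [one_smul]; exact hgr
      · by_contra hcon
        push Not at hcon
        apply hMtop
        apply le_antisymm hMS
        intro x hx
        obtain ⟨g, hgΩ, rfl⟩ := (mem_omegaGL_iff h2 _).mp hx
        exact (hmemK g).mp (hcon g hgΩ)
    apply le_antisymm _ hHM
    intro x hx
    obtain ⟨g, hgΩ, rfl⟩ := (mem_omegaGL_iff h2 _).mp (hMS hx)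
    have hgK : g ∈ K := (hmemK g).mpr hx
    have hgr := S.main hgK
    refine ⟨⟨1, one_ne_zero, ?_⟩, hMS hx⟩
    rw [one_smul]; exact hgr

end Cfsg.Agent.Lib.Helper48.OSub
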