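import Mathlib
import Cfsg.Agent.Lib.Helper48.OSub.Std
import Cfsg.Agent.Lib.Helper48.SpSub.Reduce
import Cfsg.Agent.Lib.Helper50.WittMain

set_option autoImplicit false
set_option linter.unusedSectionVars false
set_option linter.unusedVariables false
set_option linter.unusedSimpArgs false

/-! Subfield subgroups of the odd-dimensional orthogonal groups: reduction of a general rational
structure to the standard one. -/

namespace Cfsg.Agent.Lib.Helper48.OSub

open scoped Matrix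
open Matrix Cfsg.Agent.Lib.Helper43 Cfsg.Agent.Lib.Helper48.Subfield

variable {F : Type*} [Field F] {m : ℕ}

theorem gmul_act (g h : GL (Idx m) F) (x : Idx m → F) :
    (g * h).1 *ᵥ x = g.1 *ᵥ (h.1 *ᵥ x) := by
  rw [Matrix.mulVec_mulVec]; rfl

theorem gact_inv (g : GL (Idx m) F) (x : Idx m → F) : g.1 *ᵥ (g⁻¹.1 *ᵥ x) = x := by
  rw [Matrix.mulVec_mulVec, ← Units.val_mul, mul_inv_cancel, Units.val_one, Matrix.one_mulVec]

theorem ginv_act (g : GL (Idx m) F) (x : Idx m → F) : g⁻¹.1 *ᵥ (g.1 *ᵥ x) = x := by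
  rw [Matrix.mulVec_mulVec, ← Units.val_mul, inv_mul_cancel, Units.val_one, Matrix.one_mulVec]

theorem mem_iso_iff (Q : (Idx m → F) → F) (g : GL (Idx m) F) :
    g ∈ Cfsg.isometryGroup F Q ↔ ∀ u, Q (g.1 *ᵥ u) = Q u := by
  unfold Cfsg.isometryGroup Cfsg.preserving
  simp only [Subgroup.mem_mk, Submonoid.mem_mk, Subsemigroup.mem_mk, Set.mem_ofPred_eq,
    Units.coeHom_apply]
  constructor
  · intro h u; exact h u u
  · intro h u _; exact h u

/-- a similitude normalises the isometry group -/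
theorem isometryGroup_map_conj (Q : (Idx m → F) → F) (P' : GL (Idx m) F) (c : F) (hc : c ≠ 0)
    (hsim : ∀ y, Q (P'.1 *ᵥ y) = c * Q y) :
    (Cfsg.isometryGroup F Q).map (MulAut.conj P').toMonoidHom = Cfsg.isometryGroup F Q := by
  have hinv : ∀ y, Q (P'⁻¹.1 *ᵥ y) = c⁻¹ * Q y := by
    intro y
    have := hsim (P'⁻¹.1 *ᵥ y)
    rw [gact_inv] at this
    rw [this, ← mul_assoc, inv_mul_cancel₀ hc, one_mul]
  ext g
  constructor
  · rintro ⟨y, hy, rfl⟩
    have hy' := (mem_iso_iff Q y).mp hy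
    rw [mem_iso_iff]
    intro u
    show Q ((P' * y * P'⁻¹).1 *ᵥ u) = Q u
    rw [gmul_act, gmul_act, hsim, hy', hinv, ← mul_assoc, mul_inv_cancel₀ hc, one_mul]
  · intro hg
    have hg' := (mem_iso_iff Q g).mp hg
    refine ⟨P'⁻¹ * g * P', ?_, ?_⟩
    · show P'⁻¹ * g * P' ∈ Cfsg.isometryGroup F Q
      rw [mem_iso_iff]
      intro u
      rw [gmul_act, gmul_act, hinv, hg', hsim, ← mul_assoc, inv_mul_cancel₀ hc, one_mul]
    · simp [MulAut.conj_apply, mul_assoc]

/-- a similitude normalises `Ω` -/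
theorem omegaGL_map_conj (Q : (Idx m → F) → F) (P' : GL (Idx m) F) (c : F) (hc : c ≠ 0)
    (hsim : ∀ y, Q (P'.1 *ᵥ y) = c * Q y) :
    (Cfsg.Geo.omegaGL Q).map (MulAut.conj P').toMonoidHom = Cfsg.Geo.omegaGL Q := by
  have h1 : Cfsg.Geo.omegaGL Q = ⁅Cfsg.isometryGroup F Q, Cfsg.isometryGroup F Q⁆ := by
    unfold Cfsg.Geo.omegaGL Cfsg.Omega
    exact Subgroup.map_subtype_commutator _
  rw [h1, Subgroup.map_commutator, isometryGroup_map_conj Q P' c hc hsim]

theorem coe_quadFormOdd (F₀ : Subfield F) (y : Idx m → F₀) :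
    ((Cfsg.quadFormOdd m F₀ y : F₀) : F) = Cfsg.quadFormOdd m F (up F₀ y) := by
  unfold Cfsg.quadFormOdd up
  push_cast
  rfl

variable [Fintype F]

/-- a rational structure for the odd quadratic form can be normalised, up to a similitude -/
theorem exists_normal_form (h2 : (2 : F) ≠ 0) (F₀ : Subfield F) (P : GL (Idx m) F)
    (hP : Cfsg.Geo.IsQuadFormRationalStructure (Cfsg.quadFormOdd m F) F₀ P) :
    ∃ (N : GL (Idx m) F) (c : F), N ∈ G0 (ι := Idx m) F₀ ∧ c ≠ 0 ∧
      ∀ y : Idx m → F, Cfsg.quadFormOdd m F ((P * N).1 *ᵥ y) = c * Cfsg.quadFormOdd m F y := by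
  classical
  set T : (Idx m → F₀) → (Idx m → F) := fun u => P.1 *ᵥ up F₀ u with hT
  have hT_add : ∀ u v, T (u + v) = T u + T v := by
    intro u v; simp only [hT, SpSub.up_add, Matrix.mulVec_add]
  have hT_smul : ∀ (a : F₀) u, T (a • u) = (a : F) • T u := by
    intro a u; simp only [hT, SpSub.up_smul, Matrix.mulVec_smul]
  let q : (Idx m → F₀) → F₀ := fun u => ⟨Cfsg.quadFormOdd m F (T u), hP _ (rat_up F₀ u)⟩
  have hq : ∀ u, ((q u : F₀) : F) = Cfsg.quadFormOdd m F (T u) := fun u => rfl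
  have hpol : ∀ u v, ((QuadraticMap.polar q u v : F₀) : F) = bf (T u) (T v) := by
    intro u v
    unfold QuadraticMap.polar
    rw [Subfield.coe_sub, Subfield.coe_sub, hq, hq, hq, hT_add, Q_add]
    ring
  let Q₀ : QuadraticForm F₀ (Idx m → F₀) := QuadraticMap.ofPolar q
    (fun a x => by
      apply Subtype.ext
      rw [smul_eq_mul, Subfield.coe_mul, Subfield.coe_mul, hq, hq, hT_smul, Q_smul])
    (fun x x' y => by
      apply Subtype.ext
      rw [Subfield.coe_add, hpol, hpol, hpol, hT_add, bf_add_left])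
    (fun a x y => by
      apply Subtype.ext
      rw [smul_eq_mul, Subfield.coe_mul, hpol, hpol, hT_smul, bf_smul_left])
  have hQ₀ : ∀ u, Q₀ u = q u := fun u => rfl
  have hQND : Cfsg.Agent.Lib.Helper50.QND Q₀ := by
    intro v hv
    have h1 : ∀ z : Idx m → F, bf (T v) z = 0 := by
      let ℓ : (Idx m → F) →ₗ[F] F :=
        (QuadraticMap.polarBilin (Qf m h2) (T v)).comp (Matrix.mulVecLin P.1)
      have hℓ : ∀ z, ℓ z = bf (T v) (P.1 *ᵥ z) := by
        intro z
        show QuadraticMap.polarBilin (Qf m h2) (T v) (P.1 *ᵥ z) = _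
        rw [pb_eq]
      have hℓ0 : ℓ = 0 := by
        apply (Pi.basisFun F (Idx m)).ext
        intro a
        rw [Pi.basisFun_apply, hℓ, LinearMap.zero_apply, ← up_single F₀ a]
        have := hv (Pi.single a 1)
        have h3 : ((QuadraticMap.polar q v (Pi.single a 1) : F₀) : F) = 0 := by
          have h4 : QuadraticMap.polar q v (Pi.single a 1) = 0 := this
          rw [h4]; rfl
        rw [hpol] at h3
        exact h3
      intro z
      have := hℓ (P⁻¹.1 *ᵥ z)
      rw [gact_inv, hℓ0, LinearMap.zero_apply] at this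
      exact this.symm
    have h3 := eq_zero_of_bf h2 _ h1
    have h4 : up F₀ v = 0 := by
      have := ginv_act P (up F₀ v)
      rw [show P.1 *ᵥ up F₀ v = T v from rfl, h3, Matrix.mulVec_zero] at this
      exact this.symm
    apply up_injective F₀
    rw [h4]; rfl
  have hfr : Module.finrank F₀ (Idx m → F₀) = 2 * m + 1 := by
    rw [Module.finrank_fintype_fun_eq_card, Fintype.card_sum, Fintype.card_sum, Fintype.card_fin,
      Fintype.card_unit]
    omega
  rcases Cfsg.Agent.Lib.Helper50.witt_type (2 * m + 1) Q₀ hfr hQND with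
    ⟨m', hm', _⟩ | ⟨m', ζ, hm', _, _⟩ | ⟨m', c₀, hm', hc₀, φ, hφ⟩
  · omega
  · omega
  have hmm : m' = m := by omega
  subst hmm
  -- the change of basis
  set A : Matrix (Idx m') (Idx m') F₀ :=
    LinearMap.toMatrix' (φ.symm : (Idx m' → F₀) →ₗ[F₀] (Idx m' → F₀)) with hA
  set A' : Matrix (Idx m') (Idx m') F₀ :=
    LinearMap.toMatrix' (φ : (Idx m' → F₀) →ₗ[F₀] (Idx m' → F₀)) with hA'
  have hAA' : A * A' = 1 := by
    rw [hA, hA', ← LinearMap.toMatrix'_comp]
    have : (φ.symm : (Idx m' → F₀) →ₗ[F₀] (Idx m' → F₀)).comp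
        (φ : (Idx m' → F₀) →ₗ[F₀] (Idx m' → F₀)) = LinearMap.id :=
      LinearMap.ext fun x => by simp
    rw [this, LinearMap.toMatrix'_id]
  have hA'A : A' * A = 1 := by
    rw [hA, hA', ← LinearMap.toMatrix'_comp]
    have : (φ : (Idx m' → F₀) →ₗ[F₀] (Idx m' → F₀)).comp
        (φ.symm : (Idx m' → F₀) →ₗ[F₀] (Idx m' → F₀)) = LinearMap.id :=
      LinearMap.ext fun x => by simp
    rw [this, LinearMap.toMatrix'_id]
  let Agl : GL (Idx m') F₀ := ⟨A, A', hAA', hA'A⟩
  set sc : Idx m' → F₀ := Sum.elim (fun _ => 1) (Sum.elim (fun _ => c₀) (fun _ => 1)) with hsc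
  have hsc0 : ∀ a, sc a ≠ 0 := by
    rintro (a | (a | a))
    · simp [hsc]
    · simpa [hsc] using hc₀
    · simp [hsc]
  set D : Matrix (Idx m') (Idx m') F₀ := Matrix.diagonal sc with hD
  set D' : Matrix (Idx m') (Idx m') F₀ := Matrix.diagonal (fun a => (sc a)⁻¹) with hD'
  have hDD' : D * D' = 1 := by
    rw [hD, hD', Matrix.diagonal_mul_diagonal, ← Matrix.diagonal_one]
    congr 1
    funext a
    exact mul_inv_cancel₀ (hsc0 a)
  have hD'D : D' * D = 1 := by
    rw [hD, hD', Matrix.diagonal_mul_diagonal, ← Matrix.diagonal_one]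
    congr 1
    funext a
    exact inv_mul_cancel₀ (hsc0 a)
  let Dgl : GL (Idx m') F₀ := ⟨D, D', hDD', hD'D⟩
  set N₀ : GL (Idx m') F₀ := Agl * Dgl with hN₀
  have hodd : ∀ y : Idx m' → F₀,
      Cfsg.Agent.Lib.Helper50.oddForm m' c₀ (D *ᵥ y) = c₀ * Cfsg.quadFormOdd m' F₀ y := by
    intro y
    unfold Cfsg.Agent.Lib.Helper50.oddForm Cfsg.quadFormOdd
    simp only [hD, Matrix.mulVec_diagonal, hsc, Sum.elim_inl, Sum.elim_inr, one_mul, mul_add,
      Finset.mul_sum]
    congr 1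
    refine Finset.sum_congr rfl fun i _ => ?_
    ring
  set N : GL (Idx m') F := Matrix.GeneralLinearGroup.map (F₀.subtype : F₀ →+* F) N₀ with hN
  have hrat : ∀ y₀ : Idx m' → F₀, Cfsg.quadFormOdd m' F ((P * N).1 *ᵥ up F₀ y₀)
      = (c₀ : F) * Cfsg.quadFormOdd m' F (up F₀ y₀) := by
    intro y₀
    rw [gmul_act, hN, map_mulVec_up]
    show Cfsg.quadFormOdd m' F (T (N₀.1 *ᵥ y₀)) = _
    rw [← hq, ← hQ₀]
    have h5 : N₀.1 *ᵥ y₀ = φ.symm (D *ᵥ y₀) := by
      show (A * D) *ᵥ y₀ = _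
      rw [← Matrix.mulVec_mulVec, hA, LinearMap.toMatrix'_mulVec]
      rfl
    rw [h5, ← hφ, LinearEquiv.apply_symm_apply, hodd, Subfield.coe_mul, coe_quadFormOdd]
  refine ⟨N, (c₀ : F), ⟨N₀, rfl⟩, ?_, ?_⟩
  · intro h
    apply hc₀
    exact Subtype.ext h
  set M : Matrix (Idx m') (Idx m') F := (P * N).1 with hM
  have e1 : ∀ x y : Idx m' → F, bf x y
      = Cfsg.quadFormOdd m' F (x + y) - Cfsg.quadFormOdd m' F x - Cfsg.quadFormOdd m' F y := by
    intro x y; rw [Q_add]; ring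
  have hB : (QuadraticMap.polarBilin (Qf m' h2)).compl₁₂ (Matrix.mulVecLin M) (Matrix.mulVecLin M)
      = (c₀ : F) • QuadraticMap.polarBilin (Qf m' h2) := by
    apply LinearMap.BilinForm.ext_basis (Pi.basisFun F (Idx m'))
    intro a b
    rw [LinearMap.compl₁₂_apply, LinearMap.smul_apply, LinearMap.smul_apply, pb_eq, pb_eq,
      Pi.basisFun_apply, Pi.basisFun_apply, smul_eq_mul]
    show bf (M *ᵥ Pi.single a 1) (M *ᵥ Pi.single b 1) = _
    rw [e1, e1, ← Matrix.mulVec_add, ← up_single F₀ a, ← up_single F₀ b, ← SpSub.up_add, hrat,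
      hrat, hrat]
    ring
  intro y
  have h6 : bf (M *ᵥ y) (M *ᵥ y) = (c₀ : F) * bf y y := by
    have := LinearMap.congr_fun (LinearMap.congr_fun hB y) y
    rw [LinearMap.compl₁₂_apply, LinearMap.smul_apply, LinearMap.smul_apply, pb_eq, pb_eq,
      smul_eq_mul] at this
    exact this
  rw [bf_self, bf_self] at h6
  have h7 : (2 : F) * Cfsg.quadFormOdd m' F (M *ᵥ y)
      = 2 * ((c₀ : F) * Cfsg.quadFormOdd m' F y) := by
    rw [h6]; ring
  exact mul_left_cancel₀ h2 h7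

end Cfsg.Agent.Lib.Helper48.OSub
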